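import Cfsg.Agent.Lib.Coprime.SquareFixed.Local
import Cfsg.Agent.Lib.Fusion.ThompsonComplement
import Cfsg.Agent.Lib.Fusion.Transfer

/-!
# There is no minimal insolvable group for a `(q,q)` action with abelian fixed groups

The signalizers of self-centralizing abelian subgroups of an invariant Sylow subgroup coincide, so
every local subgroup of invariant `p`-subgroups lies in one invariant maximal subgroup; Thompson's
normal complement theorem finishes the argument.
-/

set_option autoImplicit false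
set_option linter.style.haveILetI false
set_option linter.unusedSectionVars false

namespace CfsgLib.Coprime.SquareFixed

open Subgroup
open scoped commutatorElement

universe u

variable {Γ : Type u} [Group Γ] [Finite Γ] {q p : ℕ} {A K : Subgroup Γ}

theorem card_le_of_sylow [Fact p.Prime] {S H X : Subgroup Γ} (hS : IsSylowIn p S H) (hX : X ≤ H)
    (hXp : IsPGroup p X) : Nat.card X ≤ Nat.card S := by
  obtain ⟨i, hi⟩ := IsPGroup.iff_card.1 hXp
  rw [hS.2, hi]
  exact Nat.pow_le_pow_right (Fact.out : p.Prime).pos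
    (((Fact.out : p.Prime).pow_dvd_iff_le_factorization Nat.card_pos.ne').1 (hi ▸ card_dvd_of_le hX))

theorem eq_of_normalizer_le [Fact p.Prime] {B P : Subgroup Γ} (hP : IsPGroup p P) (hB : B ≤ P)
    (h : P ⊓ normalizer (B : Set Γ) ≤ B) : B = P := by
  by_contra hne
  haveI := hP.isNilpotent
  obtain ⟨x, hx, hx'⟩ := SetLike.exists_of_lt
    (Group.normalizerCondition_of_isNilpotent (G := P) (B.subgroupOf P)
      (lt_top_iff_ne_top.2 fun e => hne (le_antisymm hB (subgroupOf_eq_top.1 e))))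
  refine hx' (mem_subgroupOf.2 (h (Subgroup.mem_inf.2 ⟨x.2, mem_normalizer_iff.2 fun y => ⟨fun hy => ?_, fun hy => ?_⟩⟩)))
  · exact mem_subgroupOf.1 ((mem_normalizer_iff.1 hx ⟨y, hB hy⟩).1 (mem_subgroupOf.2 hy))
  · have hyP : y ∈ P := by
      have := mul_mem (mul_mem (inv_mem x.2) (hB hy)) x.2
      rwa [show (x : Γ)⁻¹ * ((x : Γ) * y * (x : Γ)⁻¹) * x = y by group] at this
    exact mem_subgroupOf.1 ((mem_normalizer_iff.1 hx ⟨y, hyP⟩).2 (mem_subgroupOf.2 hy))

theorem hasNormalPComplement_of_isNilpotent {H : Type u} [Group H] [Finite H] [Fact p.Prime]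
    (h : Group.IsNilpotent H) : Cfsg.HasNormalPComplement p H := by
  haveI := h
  obtain ⟨S⟩ : Nonempty (Sylow p H) := inferInstance
  haveI hn : (S : Subgroup H).Normal :=
    Sylow.normal_of_normalizerCondition Group.normalizerCondition_of_isNilpotent _
  have hco := S.card_coprime_index
  obtain ⟨N, hN⟩ := Subgroup.exists_right_complement'_of_coprime hco
  have hcard : Nat.card N = (S : Subgroup H).index := hN.symm.index_eq_card.symm
  have hcomm : ∀ s ∈ (S : Subgroup H), ∀ n ∈ N, s * n = n * s := fun s hs n hn' =>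
    (CfsgLib.CFun.commute_of_coprime_order ((hco.coprime_dvd_left (orderOf_dvd_natCard _ hs)).coprime_dvd_right
      (hcard ▸ orderOf_dvd_natCard _ hn'))).eq
  refine ⟨S, N, normalizer_eq_top_iff.1 (top_le_iff.1 ?_), hN.symm⟩
  rw [← hN.sup_eq_top, sup_le_iff]
  exact ⟨fun s hs => centralizer_le_normalizer _
    (mem_centralizer_iff.2 fun n hn' => (hcomm s hs n hn').symm), le_normalizer⟩

/-- A minimal counterexample. -/
structure Min (q : ℕ) (A K : Subgroup Γ) : Prop extends Hyp q A K where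
  solv : ∀ H ≤ K, H ≠ K → A ≤ normalizer (H : Set Γ) → Group.IsSolvable H
  minimal : ∀ N ≤ K, A ≤ normalizer (N : Set Γ) → K ≤ normalizer (N : Set Γ) → N = ⊥ ∨ N = K
  nsolv : ¬ Group.IsSolvable K

/-- An invariant abelian subgroup of `P` that contains its centralizer in `P`. -/
structure Sca (A P B : Subgroup Γ) : Prop where
  le : B ≤ P
  inv : A ≤ normalizer (B : Set Γ)
  ab : B ≤ centralizer (B : Set Γ)
  self : P ⊓ centralizer (B : Set Γ) ≤ B

/-- An invariant `p'`-subgroup normalized by `B`. -/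
structure Signal (p : ℕ) (A K B W : Subgroup Γ) : Prop where
  le : W ≤ K
  inv : A ≤ normalizer (W : Set Γ)
  ndvd : ¬ p ∣ Nat.card W
  norm : B ≤ normalizer (W : Set Γ)

/-- The invariant maximal subgroup over `P`. -/
structure Over (A K P U : Subgroup Γ) : Prop where
  le : U ≤ K
  ne : U ≠ K
  inv : A ≤ normalizer (U : Set Γ)
  sylow : P ≤ U
  max : ∀ M ≤ K, M ≠ K → A ≤ normalizer (M : Set Γ) → P ≤ M → M ≤ U
  loc : ∀ X ≤ P, X ≠ ⊥ → A ≤ normalizer (X : Set Γ) → K ⊓ normalizer (X : Set Γ) ≤ U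

namespace Min

variable (h : Min q A K)
include h

theorem ne_of_pgroup [Fact p.Prime] {X : Subgroup Γ} (hX : IsPGroup p X) : X ≠ K :=
  fun e => h.nsolv (e ▸ solvable_of_isPGroup hX)

theorem solv_normalizer [Fact p.Prime] {X : Subgroup Γ} (hX : X ≤ K) (hXp : IsPGroup p X)
    (hA : A ≤ normalizer (X : Set Γ)) (hX1 : X ≠ ⊥) :
    K ⊓ normalizer (X : Set Γ) ≠ K ∧ A ≤ normalizer ((K ⊓ normalizer (X : Set Γ) : Subgroup Γ) : Set Γ) ∧
      Group.IsSolvable ↥(K ⊓ normalizer (X : Set Γ) : Subgroup Γ) := by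
  have hne : K ⊓ normalizer (X : Set Γ) ≠ K := fun e =>
    (h.minimal X hX hA (inf_eq_left.1 e)).elim hX1 (h.ne_of_pgroup hXp)
  have hinv := inf_le_normalizer h.norm (hA.trans le_normalizer)
  exact ⟨hne, hinv, h.solv _ inf_le_left hne hinv⟩

theorem no_complement [Fact p.Prime] (hd : p ∣ Nat.card K) : ¬ Cfsg.HasNormalPComplement p K := by
  rintro ⟨S, N, hN, hc⟩
  have hd' : ¬ p ∣ Nat.card N := by
    rw [← hc.index_eq_card]; exact S.not_dvd_index
  rcases h.minimal (core' p K) core'_le (h.norm.trans normalizer_le_normalizer_core')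
    (le_normalizer.trans normalizer_le_normalizer_core') with e | e
  · have hN1 : N = ⊥ := by
      have := le_pPrimeCore_of_not_dvd Fact.out hd'
      rwa [(map_eq_bot_iff_of_injective _ K.subtype_injective).1 e, le_bot_iff] at this
    have hS : (S : Subgroup K) = ⊤ := by
      rw [hN1] at hc
      exact isComplement'_bot_left.1 hc
    have hK : IsPGroup p K := by
      have hp := S.2
      rw [hS] at hp
      exact hp.of_equiv topEquiv
    exact h.ne_of_pgroup hK rfl
  · exact core'_not_dvd (H := K) (e ▸ hd)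

theorem exists_sylow (p : ℕ) [Fact p.Prime] :
    ∃ P : Subgroup Γ, IsSylowIn p P K ∧ A ≤ normalizer (P : Set Γ) :=
  exists_invariant_sylow h.norm (h.copA le_rfl) (Or.inl h.solvA) p

section Sylow

variable [Fact p.Prime] {P : Subgroup Γ} (hP : IsSylowIn p P K) (hPA : A ≤ normalizer (P : Set Γ))
include hP hPA

theorem le_sylow {X : Subgroup Γ} (hX : X ≤ K) (hXp : IsPGroup p X) (hA : A ≤ normalizer (X : Set Γ)) :
    X ≤ P := by
  obtain ⟨Q, hQ, hXQ, hQA⟩ := le_invariant_sylow h.norm (h.copA le_rfl) (Or.inl h.solvA) hX hXp hA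
  obtain ⟨c, hc, e⟩ := invariant_sylow_conj h.norm (h.copA le_rfl) (Or.inl h.solvA) hQ hP hQA hPA
  rw [h.fpf, mem_bot] at hc
  rw [hc, conjBy_one] at e
  exact hXQ.trans e.le

theorem inf_sylow {H : Subgroup Γ} (hH : H ≤ K) (hA : A ≤ normalizer (H : Set Γ)) :
    IsSylowIn p (P ⊓ H) H := by
  obtain ⟨S, hS, hSA⟩ := exists_invariant_sylow hA (h.copA hH) (Or.inl h.solvA) p
  have hle : S ≤ P ⊓ H := le_inf (h.le_sylow hP hPA (hS.1.trans hH) hS.isPGroup hSA) hS.1
  have e : S = P ⊓ H := eq_of_le_of_card_ge hle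
    (card_le_of_sylow hS inf_le_right (hP.isPGroup.to_le inf_le_left))
  exact e ▸ hS

theorem exists_sca {X : Subgroup Γ} (hX : X ≤ P) (hA : A ≤ normalizer (X : Set Γ))
    (hab : X ≤ centralizer (X : Set Γ)) : ∃ B, Sca A P B ∧ X ≤ B := by
  obtain ⟨B, hXB, hB⟩ := exists_maximal_ge_of_wellFoundedGT
    (fun B : Subgroup Γ => B ≤ P ∧ A ≤ normalizer (B : Set Γ) ∧ B ≤ centralizer (B : Set Γ)) X ⟨hX, hA, hab⟩
  obtain ⟨hBP, hBA, hBab⟩ := hB.prop
  refine ⟨B, ⟨hBP, hBA, hBab, ?_⟩, hXB⟩
  set C := P ⊓ centralizer (B : Set Γ)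
  have hCA : A ≤ normalizer (C : Set Γ) :=
    inf_le_normalizer hPA (hBA.trans (normalizer_le_normalizer_centralizer B))
  refine h.le_of_fix (inf_le_left.trans hP.1) hCA fun a ha ha1 => ?_
  set Y := C ⊓ centralizer {a}
  have hBY : B ≤ centralizer (Y : Set Γ) :=
    le_centralizer_iff.1 (inf_le_left.trans inf_le_right)
  have hYY : Y ≤ centralizer (Y : Set Γ) := fun y hy => mem_centralizer_iff.2 fun z hz =>
    h.comm a ha ha1 z ⟨hP.1 hz.1.1, hz.2⟩ y ⟨hP.1 hy.1.1, hy.2⟩
  have hab' : B ⊔ Y ≤ centralizer ((B ⊔ Y : Subgroup Γ) : Set Γ) :=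
    sup_le (le_centralizer_iff.1 (sup_le hBab (inf_le_left.trans inf_le_right)))
      (le_centralizer_iff.1 (sup_le hBY hYY))
  have := hB.eq_of_le (show B ⊔ Y ≤ P ∧ A ≤ normalizer ((B ⊔ Y : Subgroup Γ) : Set Γ) ∧ _ from
    ⟨sup_le hBP (inf_le_left.trans inf_le_left), sup_le_normalizer hBA (h.inv_fix hCA ha), hab'⟩) le_sup_left
  exact (le_sup_right : Y ≤ B ⊔ Y).trans this.ge

/-- Burnside's theorem. -/
theorem no_burnside (hd : p ∣ Nat.card K) :
    ¬ K ⊓ normalizer (P : Set Γ) ≤ centralizer (P : Set Γ) := by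
  intro hN
  refine h.no_complement hd
    (CfsgLib.Fusion.hasNormalPComplement_of_normalizer_le_centralizer hP.toSylow fun g hg => ?_)
  have hmap : ((hP.toSylow : Subgroup K).map K.subtype) = P := hP.map_toSylow
  have hgn : (g : Γ) ∈ normalizer (P : Set Γ) := by
    rw [← hmap]
    exact le_normalizer_map K.subtype (mem_map_of_mem _ hg)
  have hc := mem_centralizer_iff.1 (hN ⟨g.2, hgn⟩)
  exact mem_centralizer_iff.2 fun x hx => Subtype.ext (hc x (hmap ▸ mem_map_of_mem _ hx))

theorem sylow_ne_bot (hd : p ∣ Nat.card K) : P ≠ ⊥ := by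
  intro e
  have hc := hP.2
  rw [e, card_bot] at hc
  have := (Fact.out : p.Prime).factorization_pos_of_dvd Nat.card_pos.ne' hd
  exact absurd (Nat.le_of_dvd one_pos (hc ▸ dvd_pow_self p this.ne')) (not_le.2 (Fact.out : p.Prime).one_lt)

/-- A non-identity element of `A` centralizes no invariant Sylow subgroup. -/
theorem not_centralized (hd : p ∣ Nat.card K) {a : Γ} (ha : a ∈ A) (ha1 : a ≠ 1) :
    ¬ P ≤ centralizer ({a} : Set Γ) := by
  intro hPa
  refine h.no_burnside hP hPA hd ?_
  set N := K ⊓ normalizer (P : Set Γ)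
  have hNA : A ≤ normalizer (N : Set Γ) := inf_le_normalizer h.norm (hPA.trans le_normalizer)
  rw [← commutator_sup_centralizer (A := zpowers a) (K := N) ((zpowers_le.2 ha).trans hNA)
    (h.copz ha inf_le_left) (Or.inl (isSolvable_of_le (zpowers_le.2 ha) h.solvA)), sup_le_iff]
  refine ⟨commutator_le.2 fun n hn d hd => ?_, fun n hn => mem_centralizer_iff.2 fun x hx => ?_⟩
  · have hdP : d ∈ centralizer (P : Set Γ) := zpowers_le_centralizer (fun x hx => hPa hx) hd
    rw [commutatorElement_def]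
    exact mul_mem ((mem_normalizer_iff.1 (normalizer_le_normalizer_centralizer P hn.2) d).1 hdP)
      (inv_mem hdP)
  · have hna : n ∈ centralizer ({a} : Set Γ) := by
      have := hn.2
      rwa [zpowers_eq_closure, centralizer_closure] at this
    exact h.comm a ha ha1 x ⟨hP.1 hx, hPa hx⟩ n ⟨hn.1.1, hna⟩

theorem solv_sup {W Y : Subgroup Γ} (hd : p ∣ Nat.card K) (hW : W ≤ K) (hAW : A ≤ normalizer (W : Set Γ))
    (hWd : ¬ p ∣ Nat.card W) (hY : Y ≤ P) (hAY : A ≤ normalizer (Y : Set Γ))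
    (hYW : Y ≤ normalizer (W : Set Γ)) : Group.IsSolvable ↥(W ⊔ Y) := by
  refine h.solv _ (sup_le hW (hY.trans hP.1)) (fun e => ?_) (sup_le_normalizer hAW hAY)
  rcases h.minimal W hW hAW (e ▸ sup_le le_normalizer hYW) with e1 | e1
  · exact h.ne_of_pgroup (hP.isPGroup.to_le hY) (by rwa [e1, bot_sup_eq] at e)
  · exact hWd (e1 ▸ hd)

variable {B : Subgroup Γ} (hB : Sca A P B) (hd : p ∣ Nat.card K)
include hB hd

theorem sca_ne_bot : B ≠ ⊥ := fun e => h.sylow_ne_bot hP hPA hd <| le_bot_iff.1 <| by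
  refine le_trans ?_ (hB.self.trans e.le)
  exact le_inf le_rfl fun x _ => mem_centralizer_iff.2 fun b hb => by
    rw [e, SetLike.mem_coe, mem_bot] at hb
    rw [hb, one_mul, mul_one]

theorem commutator_normalizer_ne_bot : ⁅B, K ⊓ normalizer (B : Set Γ)⁆ ≠ ⊥ := by
  intro e
  rw [commutator_eq_bot_iff_le_centralizer, le_centralizer_iff] at e
  have hBP : B = P := eq_of_normalizer_le hP.isPGroup hB.le
    ((le_inf inf_le_left ((inf_le_inf_right _ hP.1).trans e)).trans hB.self)
  exact h.no_burnside hP hPA hd (hBP ▸ e)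

theorem signal_le_centralizer {W : Subgroup Γ} (hW : Signal p A K B W) :
    W ≤ K ⊓ centralizer ((⁅B, K ⊓ normalizer (B : Set Γ)⁆ : Subgroup Γ) : Set Γ) := by
  refine le_inf hW.le ?_
  set Z := K ⊓ normalizer (B : Set Γ)
  have hWs : Group.IsSolvable W := h.solv W hW.le (fun e => hW.ndvd (e ▸ hd)) hW.inv
  have hcop : (Nat.card ↥(A ⊔ B)).Coprime (Nat.card W) := by
    refine Nat.Coprime.coprime_dvd_left (card_sup_dvd_of_le_normalizer hB.inv) (Nat.Coprime.mul_left (h.copA hW.le) ?_)
    obtain ⟨i, hi⟩ := IsPGroup.iff_card.1 (hP.isPGroup.to_le hB.le)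
    rw [hi]
    exact Nat.Coprime.pow_left _ ((Fact.out : p.Prime).coprime_iff_not_dvd.2 hW.ndvd)
  refine le_of_sylows fun r hr => ?_
  haveI := Fact.mk hr
  obtain ⟨S, hS, hSAB⟩ := exists_invariant_sylow (sup_le hW.inv hW.norm) hcop (Or.inr hWs) r
  refine ⟨S, hS, ?_⟩
  have hpr : p ≠ r ∨ S = ⊥ := by
    by_cases hpr : p = r
    · right
      subst hpr
      refine card_eq_one.1 ?_
      rw [hS.2, Nat.factorization_eq_zero_of_not_dvd hW.ndvd, pow_zero]
    · exact Or.inl hpr
  rcases hpr with hpr | hpr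
  · refine le_centralizer_iff.1 (h.commutator_normalizing_centralizes hpr (hB.le.trans hP.1)
      (hP.isPGroup.to_le hB.le) hB.inv (hS.1.trans hW.le) hS.isPGroup (le_sup_left.trans hSAB)
      (le_sup_right.trans hSAB) ?_ inf_le_left (inf_le_normalizer h.norm (hB.inv.trans le_normalizer))
      inf_le_right)
    rw [commutator_eq_bot_iff_le_centralizer.2 hB.ab]
    exact bot_le
  · rw [hpr]; exact bot_le

omit hB in
/-- The signalizer attached to `B`. -/
theorem exists_top (hB : Sca A P B) : ∃ W, Signal p A K B W ∧ K ⊓ normalizer (P : Set Γ) ≤ normalizer (W : Set Γ) ∧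
    P ≤ normalizer (W : Set Γ) ∧ ∀ W', Signal p A K B W' → W' ≤ W := by
  set Z := K ⊓ normalizer (B : Set Γ)
  set X := ⁅B, Z⁆
  set H := K ⊓ centralizer (X : Set Γ)
  have hBK : B ≤ K := hB.le.trans hP.1
  have hXB : X ≤ B := commutator_le_self_of_le_normalizer inf_le_right
  have hAZ : A ≤ normalizer (Z : Set Γ) := inf_le_normalizer h.norm (hB.inv.trans le_normalizer)
  have hAX : A ≤ normalizer (X : Set Γ) := le_normalizer_commutator hB.inv hAZ
  have hBH : B ≤ H := le_inf hBK (hB.ab.trans (centralizer_le hXB))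
  have hHA : A ≤ normalizer (H : Set Γ) :=
    inf_le_normalizer h.norm (hAX.trans (normalizer_le_normalizer_centralizer _))
  have hHle : H ≤ K ⊓ normalizer (X : Set Γ) := inf_le_inf_left _ (centralizer_le_normalizer _)
  have hHs : Group.IsSolvable H := isSolvable_of_le hHle
    (h.solv_normalizer (hXB.trans hBK) (hP.isPGroup.to_le (hXB.trans hB.le)) hAX
      (h.commutator_normalizer_ne_bot hP hPA hB hd)).2.2
  set W := core' p H with hWdef
  have hW : Signal p A K B W := ⟨core'_le.trans inf_le_left, hHA.trans normalizer_le_normalizer_core',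
    core'_not_dvd, hBH.trans (le_normalizer.trans normalizer_le_normalizer_core')⟩
  have htop : ∀ W', Signal p A K B W' → W' ≤ W := fun W' hW' =>
    h.toHyp.le_core'_of_normalized inf_le_left hHA hHs (h.inf_sylow hP hPA inf_le_left hHA)
      (le_inf hB.le hBH) ((inf_le_inf_right _ inf_le_left).trans hB.self)
      (h.signal_le_centralizer hP hPA hB hd hW') hW'.norm hW'.ndvd
  -- one step of the climb
  have hstep : ∀ T : Subgroup Γ, B ≤ T → T ≤ P → A ≤ normalizer (T : Set Γ) →
      T ≤ normalizer (W : Set Γ) → K ⊓ normalizer (T : Set Γ) ≤ normalizer (W : Set Γ) := by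
    intro T hBT hTP hAT hTW
    by_cases hTB : T = B
    · subst hTB
      have hZX : Z ≤ normalizer (X : Set Γ) := le_normalizer_commutator inf_le_right le_normalizer
      exact (inf_le_normalizer (inf_le_left.trans le_normalizer)
        (hZX.trans (normalizer_le_normalizer_centralizer _))).trans normalizer_le_normalizer_core'
    set D := ⁅T, T⁆
    have hD1 : D ≠ ⊥ := fun e => hTB <| le_antisymm
      ((le_inf hTP ((commutator_eq_bot_iff_le_centralizer.1 e).trans (centralizer_le hBT))).trans hB.self) hBT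
    have hTK := hTP.trans hP.1
    have hDT : D ≤ T := commutator_le_self T
    have hDW : D ≤ centralizer (W : Set Γ) := h.derived_centralizes_prime hTK (hP.isPGroup.to_le hTP) hAT
      hW.le hW.inv hW.ndvd hTW (h.solv_sup hP hPA hd hW.le hW.inv hW.ndvd hTP hAT hTW)
    have hAD : A ≤ normalizer (D : Set Γ) := le_normalizer_commutator hAT hAT
    obtain ⟨-, hMA, hMs⟩ := h.solv_normalizer (hDT.trans hTK) (hP.isPGroup.to_le (hDT.trans hTP)) hAD hD1
    set M := K ⊓ normalizer (D : Set Γ)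
    have hTM : T ≤ M := le_inf hTK (le_normalizer_commutator le_normalizer le_normalizer)
    have h1 : W ≤ core' p M := h.toHyp.le_core'_of_normalized inf_le_left hMA hMs
      (h.inf_sylow hP hPA inf_le_left hMA) (le_inf hB.le (hBT.trans hTM))
      ((inf_le_inf_right _ inf_le_left).trans hB.self)
      (le_inf hW.le ((le_centralizer_iff.1 hDW).trans (centralizer_le_normalizer _))) hW.norm hW.ndvd
    have h2 : core' p M ≤ W := htop _ ⟨core'_le.trans inf_le_left, hMA.trans normalizer_le_normalizer_core',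
      core'_not_dvd, (hBT.trans hTM).trans (le_normalizer.trans normalizer_le_normalizer_core')⟩
    rw [le_antisymm h1 h2]
    exact (inf_le_normalizer (inf_le_left.trans le_normalizer)
      ((inf_le_right.trans (le_normalizer_commutator le_rfl le_rfl)).trans le_normalizer)).trans
      normalizer_le_normalizer_core'
  obtain ⟨T, hBT, hT⟩ := exists_maximal_ge_of_wellFoundedGT
    (fun T : Subgroup Γ => B ≤ T ∧ T ≤ P ∧ A ≤ normalizer (T : Set Γ) ∧ T ≤ normalizer (W : Set Γ)) B
    ⟨le_rfl, hB.le, hB.inv, hW.norm⟩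
  obtain ⟨-, hTP, hAT, hTW⟩ := hT.prop
  have hle : T ≤ P ⊓ normalizer (T : Set Γ) := le_inf hTP le_normalizer
  have hs := hstep T hBT hTP hAT hTW
  have heq := hT.eq_of_le (show B ≤ P ⊓ normalizer (T : Set Γ) ∧ P ⊓ normalizer (T : Set Γ) ≤ P ∧ _ from
    ⟨hBT.trans hle, inf_le_left, inf_le_normalizer hPA (hAT.trans le_normalizer),
      (inf_le_inf_right _ hP.1).trans hs⟩) hle
  obtain rfl : T = P := eq_of_normalizer_le hP.isPGroup hTP heq.ge
  exact ⟨W, hW, hs, hTW, htop⟩

omit hB in
theorem exists_over : ∃ U, Over A K P U := by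
  obtain ⟨B₀, hB₀, -⟩ := h.exists_sca hP hPA (X := ⊥) bot_le (by rw [normalizer_eq_top]; exact le_top) bot_le
  obtain ⟨W, hW, hNW, -, hWtop⟩ := h.exists_top hP hPA hd hB₀
  have htop : ∀ B, Sca A P B → ∀ W', Signal p A K B W' → W' ≤ W := fun B hB W' hW' => by
    obtain ⟨V, hV, -, hPV, hVtop⟩ := h.exists_top hP hPA hd hB
    exact (hVtop W' hW').trans (hWtop V ⟨hV.le, hV.inv, hV.ndvd, hB₀.le.trans hPV⟩)
  set N := K ⊓ normalizer (P : Set Γ)
  have hNA : A ≤ normalizer (N : Set Γ) := inf_le_normalizer h.norm (hPA.trans le_normalizer)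
  have hPN : P ≤ N := le_inf hP.1 le_normalizer
  set U := W ⊔ N
  have hUA : A ≤ normalizer (U : Set Γ) := sup_le_normalizer hW.inv hNA
  have hU : U ≠ K := fun e => by
    rcases h.minimal W hW.le hW.inv (e ▸ sup_le le_normalizer hNW) with e1 | e1
    · rw [show U = N by simp [U, e1]] at e
      exact (h.solv_normalizer hP.1 hP.isPGroup hPA (h.sylow_ne_bot hP hPA hd)).1 e
    · exact hW.ndvd (e1 ▸ hd)
  -- a solvable subgroup containing some `B`
  have hsplit : ∀ B, Sca A P B → ∀ M ≤ K, A ≤ normalizer (M : Set Γ) → Group.IsSolvable M → B ≤ M →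
      K ⊓ normalizer ((P ⊓ M : Subgroup Γ) : Set Γ) ≤ U → M ≤ U := by
    intro B hB M hM hMA hMs hBM hU'
    refine (h.toHyp.factor hM hMA hMs (h.inf_sylow hP hPA hM hMA)).trans
      (sup_le ?_ ((inf_le_inf_right _ hM).trans hU'))
    exact (htop B hB _ ⟨core'_le.trans hM, hMA.trans normalizer_le_normalizer_core', core'_not_dvd,
      hBM.trans (le_normalizer.trans normalizer_le_normalizer_core')⟩).trans le_sup_left
  -- downward induction
  have hdown : ∀ B, Sca A P B → ∀ T : Subgroup Γ, B ≤ T → T ≤ P → A ≤ normalizer (T : Set Γ) →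
      K ⊓ normalizer (T : Set Γ) ≤ U := by
    intro B hB T
    induction T using WellFoundedGT.induction with
    | _ T ih =>
      intro hBT hTP hAT
      by_cases hTP' : T = P
      · exact hTP'.symm ▸ le_sup_right
      have hT1 : T ≠ ⊥ := fun e => h.sca_ne_bot hP hPA hB hd (le_bot_iff.1 (hBT.trans e.le))
      obtain ⟨-, hMA, hMs⟩ := h.solv_normalizer (hTP.trans hP.1) (hP.isPGroup.to_le hTP) hAT hT1
      have hTM : T ≤ P ⊓ (K ⊓ normalizer (T : Set Γ)) :=
        le_inf hTP (le_inf (hTP.trans hP.1) le_normalizer)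
      refine hsplit B hB _ inf_le_left hMA hMs ((hBT.trans hTM).trans inf_le_right)
        (ih _ (lt_of_le_of_ne hTM fun e => hTP' ?_) (hBT.trans hTM) inf_le_left (inf_le_normalizer hPA hMA))
      refine eq_of_normalizer_le hP.isPGroup hTP (le_trans ?_ e.ge)
      exact le_inf inf_le_left (inf_le_inf_right _ hP.1)
  refine ⟨U, sup_le hW.le inf_le_left, hU, hUA, hPN.trans le_sup_right, fun M hM hne hMA hPM => ?_,
    fun X hXP hX1 hXA => ?_⟩
  · refine hsplit B₀ hB₀ M hM hMA (h.solv M hM hne hMA) (hB₀.le.trans hPM) ?_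
    rw [inf_eq_left.2 hPM]
    exact le_sup_right
  · -- pass to the centre of `X`
    set Z := X ⊓ centralizer (X : Set Γ)
    have hXn : normalizer (X : Set Γ) ≤ normalizer (Z : Set Γ) :=
      inf_le_normalizer le_rfl (normalizer_le_normalizer_centralizer X)
    have hZ1 : Z ≠ ⊥ := CfsgLib.Fusion.centerOf_ne_bot (hP.isPGroup.to_le hXP) hX1
    have hZA : A ≤ normalizer (Z : Set Γ) := hXA.trans hXn
    have hZP : Z ≤ P := inf_le_left.trans hXP
    obtain ⟨B, hB, hZB⟩ := h.exists_sca hP hPA hZP hZA (inf_le_right.trans (centralizer_le inf_le_left))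
    obtain ⟨-, hMA, hMs⟩ := h.solv_normalizer (hZP.trans hP.1) (hP.isPGroup.to_le hZP) hZA hZ1
    have hBM : B ≤ K ⊓ normalizer (Z : Set Γ) :=
      le_inf (hB.le.trans hP.1) ((hB.ab.trans (centralizer_le hZB)).trans (centralizer_le_normalizer _))
    exact (inf_le_inf_left _ hXn).trans (hsplit B hB _ inf_le_left hMA hMs hBM
      (hdown B hB _ (le_inf hB.le hBM) inf_le_left (inf_le_normalizer hPA hMA)))

end Sylow

/-- Every prime divisor of the maximal subgroup contributes its whole invariant Sylow subgroup. -/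
theorem sylow_le_over {r : ℕ} [Fact p.Prime] [Fact r.Prime] {P U R : Subgroup Γ} (hP : IsSylowIn p P K)
    (hPA : A ≤ normalizer (P : Set Γ)) (hU : Over A K P U) (hrU : r ∣ Nat.card U)
    (hR : IsSylowIn r R K) (hRA : A ≤ normalizer (R : Set Γ)) : R ≤ U := by
  have hrK : r ∣ Nat.card K := hrU.trans (card_dvd_of_le hU.le)
  obtain ⟨V, hV⟩ := h.exists_over hR hRA hrK
  by_contra hRU
  have habs : ¬ U ≤ V := fun hle =>
    hRU (hV.sylow.trans (hU.max V hV.le hV.ne hV.inv (hU.sylow.trans hle)))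
  -- no normal `r`-subgroup
  have hno : ∀ X ≤ U, IsPGroup r X → A ≤ normalizer (X : Set Γ) → U ≤ normalizer (X : Set Γ) → X = ⊥ := by
    intro X hX hXr hXA hUX
    by_contra hX1
    exact habs ((le_inf hU.le hUX).trans (hV.loc X (h.le_sylow hR hRA (hX.trans hU.le) hXr hXA) hX1 hXA))
  set T := R ⊓ U
  have hT : IsSylowIn r T U := h.inf_sylow hR hRA hU.le hU.inv
  have hTA : A ≤ normalizer (T : Set Γ) := inf_le_normalizer hRA hU.inv
  have hT1 : T ≠ ⊥ := by
    intro e
    have hc := hT.2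
    rw [e, card_bot] at hc
    have := (Fact.out : r.Prime).factorization_pos_of_dvd Nat.card_pos.ne' hrU
    exact absurd (Nat.le_of_dvd one_pos (hc ▸ dvd_pow_self r this.ne')) (not_le.2 (Fact.out : r.Prime).one_lt)
  have hUs : Group.IsSolvable U := h.solv U hU.le hU.ne hU.inv
  set F := ⁅U, U⁆
  have hF := h.toHyp.derived_nilpotent hU.le hU.inv hUs
  have hFU : F ≤ U := commutator_le_self U
  have hFA : A ≤ normalizer (F : Set Γ) := le_normalizer_commutator hU.inv hU.inv
  have hUF : U ≤ normalizer (F : Set Γ) := le_normalizer_commutator le_normalizer le_normalizer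
  have hFr : ¬ r ∣ Nat.card F := by
    intro hd
    obtain ⟨S⟩ : Nonempty (Sylow r F) := inferInstance
    have hS := isSylowIn_map S
    have hn := normal_sylow_of_nilpotent hF hS
    have := hno _ (hS.1.trans hFU) hS.isPGroup (hFA.trans hn) (hUF.trans hn)
    exact S.ne_bot_of_dvd_card hd ((map_eq_bot_iff_of_injective _ F.subtype_injective).1 this)
  have hTc : T ≤ centralizer (T : Set Γ) := by
    rw [← commutator_eq_bot_iff_le_centralizer]
    obtain ⟨i, hi⟩ := IsPGroup.iff_card.1 (hT.isPGroup.to_le (commutator_le_self T))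
    rcases i with _ | i
    · exact card_eq_one.1 (by rw [hi, pow_zero])
    · exact absurd (((dvd_pow_self r (Nat.succ_ne_zero i)).trans hi.symm.dvd).trans
        (card_dvd_of_le (commutator_mono inf_le_right inf_le_right))) hFr
  -- a Sylow subgroup of the derived group moved by `T`
  obtain ⟨s, hs, S, hS, hTS⟩ : ∃ s, s.Prime ∧ ∃ S, IsSylowIn s S F ∧ ¬ T ≤ centralizer (S : Set Γ) := by
    by_contra hc
    push Not at hc
    have hFT : F ≤ normalizer (T : Set Γ) := le_trans (le_of_sylows fun s hs => by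
      haveI := Fact.mk hs
      obtain ⟨S⟩ : Nonempty (Sylow s F) := inferInstance
      exact ⟨_, isSylowIn_map S, le_centralizer_iff.1 (hc s hs _ (isSylowIn_map S))⟩)
      (centralizer_le_normalizer (T : Set Γ))
    have hM : IsSylowIn r T (F ⊔ T) := ⟨le_sup_right, le_antisymm (by
      obtain ⟨i, hi⟩ := IsPGroup.iff_card.1 hT.isPGroup
      rw [hi]
      exact Nat.pow_le_pow_right (Fact.out : r.Prime).pos
        (((Fact.out : r.Prime).pow_dvd_iff_le_factorization Nat.card_pos.ne').1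
          (hi ▸ card_dvd_of_le le_sup_right))) (by
      rw [hT.2]
      exact Nat.pow_le_pow_right (Fact.out : r.Prime).pos
        ((Nat.factorization_le_iff_dvd Nat.card_pos.ne' Nat.card_pos.ne').2
          (card_dvd_of_le (sup_le hFU inf_le_right)) r))⟩
    refine hT1 (hno T inf_le_right hT.isPGroup hTA fun g hg => ?_)
    rw [← conjBy_eq_self_iff]
    refine eq_of_le_of_card_ge (isPGroup_le_of_normal_sylow hM (sup_le hFT le_normalizer) ?_
      (hT.isPGroup.map _)) (card_conjBy _ _).ge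
    rintro _ ⟨t, ht, rfl⟩
    show g * t * g⁻¹ ∈ F ⊔ T
    rw [show g * t * g⁻¹ = ⁅g, t⁆ * t by rw [commutatorElement_def]; group]
    exact mul_mem_sup (commutator_mem_commutator hg (inf_le_right (a := R) ht)) ht
  haveI := Fact.mk hs
  have hSn := normal_sylow_of_nilpotent hF hS
  have hSU : S ≤ U := hS.1.trans hFU
  have hSK : S ≤ K := hSU.trans hU.le
  have hSA : A ≤ normalizer (S : Set Γ) := hFA.trans hSn
  have hUS : U ≤ normalizer (S : Set Γ) := hUF.trans hSn
  have hTS' : T ≤ normalizer (S : Set Γ) := inf_le_right.trans hUS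
  have hS1 : S ≠ ⊥ := fun e => hTS (by
    refine le_centralizer_iff.1 ?_
    rw [e]; exact bot_le)
  have hsF : s ∣ Nat.card F := by
    obtain ⟨i, hi⟩ := IsPGroup.iff_card.1 hS.isPGroup
    rcases i with _ | i
    · exact absurd (card_eq_one.1 (by rw [hi, pow_zero])) hS1
    · exact ((dvd_pow_self s (Nat.succ_ne_zero i)).trans hi.symm.dvd).trans (card_dvd_of_le hS.1)
  have hrs : r ≠ s := fun e => hFr (e ▸ hsF)
  obtain ⟨Q, hQ, hQA⟩ := h.exists_sylow s
  obtain ⟨Us, hUs'⟩ := h.exists_over hQ hQA (hsF.trans (card_dvd_of_le (hFU.trans hU.le)))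
  have hUUs : Us ≤ U := hU.max Us hUs'.le hUs'.ne hUs'.inv (hU.sylow.trans
    ((le_inf hU.le hUS).trans (hUs'.loc S (h.le_sylow hQ hQA hSK hS.isPGroup hSA) hS1 hSA)))
  -- one line of `T` moves `S`
  obtain ⟨e, he, he1, hTe⟩ : ∃ e ∈ A, e ≠ 1 ∧ ¬ T ⊓ centralizer {e} ≤ centralizer (S : Set Γ) := by
    by_contra hc
    push Not at hc
    exact hTS (h.le_of_fix (inf_le_left.trans hR.1) hTA hc)
  have hTeA : A ≤ normalizer ((T ⊓ centralizer {e} : Subgroup Γ) : Set Γ) := h.inv_fix hTA he
  have hTeR : T ⊓ centralizer {e} ≤ R := inf_le_left.trans inf_le_left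
  have hcop : (Nat.card ↥(T ⊓ centralizer {e} : Subgroup Γ)).Coprime (Nat.card S) :=
    coprime_of_isPGroup hrs (hT.isPGroup.to_le inf_le_left) hS.isPGroup
  have hGf : ∀ f ∈ A, f ∉ zpowers e → K ⊓ centralizer {f} ≤ U := by
    intro f hf hef
    obtain ⟨hf1, hfe⟩ := h.not_mem_symm he hf he1 hef
    have hSf : S ⊓ centralizer {f} ≠ ⊥ := by
      intro hb
      have key := h.fpf_commute hf hf1 (U := S) (X := T ⊓ centralizer {e}) (N := ⊥) hSK
        (hTeR.trans hR.1) bot_le (hSA hf) (hTeA hf) (by rw [normalizer_eq_top]; exact mem_top f)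
        (by rw [normalizer_eq_top]; exact le_top) (by rw [normalizer_eq_top]; exact le_top)
        (inf_le_left.trans hTS') hcop hb.le
        (h.fix_inf_eq_bot he he1 hf hef (inf_le_inf_right _ (inf_le_left.trans hR.1)))
      exact hTe fun x hx => mem_centralizer_iff.2 fun d hd =>
        commutatorElement_eq_one_iff_mul_comm.1 (mem_bot.1 (key d hd x hx))
    have hQS : S ⊓ centralizer {f} ≤ Q :=
      inf_le_left.trans (h.le_sylow hQ hQA hSK hS.isPGroup hSA)
    refine (le_trans ?_ ((hUs'.loc _ hQS hSf (h.inv_fix hSA hf)).trans hUUs))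
    refine le_inf inf_le_left fun x hx => centralizer_le_normalizer _ (mem_centralizer_iff.2 fun y hy => ?_)
    exact h.comm f hf hf1 y ⟨hSK hy.1, hy.2⟩ x hx
  -- a second line on `R`
  obtain ⟨f, hf, hef, hYne⟩ : ∃ f ∈ A, f ∉ zpowers e ∧ R ⊓ centralizer {f} ≠ ⊥ := by
    by_contra hc
    push Not at hc
    refine h.not_centralized hR hRA hrK he he1 ?_
    have := h.le_sup_fix hR.1 hRA he he1 (N := ⊥) fun b hb hb' => (hc b hb hb').le
    rw [bot_sup_eq] at this
    exact this.trans inf_le_right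
  set Y := R ⊓ centralizer {f}
  have hYT : Y ≤ T := le_inf inf_le_left ((inf_le_inf_right _ hR.1).trans (hGf f hf hef))
  have hYA : A ≤ normalizer (Y : Set Γ) := h.inv_fix hRA hf
  have hTe1 : T ⊓ centralizer {e} ≠ ⊥ := fun hb => hTe (by rw [hb]; exact bot_le)
  apply habs
  refine (h.toHyp.factor hU.le hU.inv hUs hT).trans (sup_le ?_
    ((inf_le_inf_right _ hU.le).trans (hV.loc T inf_le_left hT1 hTA)))
  set O := core' r U
  have hOA : A ≤ normalizer (O : Set Γ) := hU.inv.trans normalizer_le_normalizer_core'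
  have hOK : O ≤ K := core'_le.trans hU.le
  have hTO : T ≤ normalizer (O : Set Γ) := inf_le_right.trans (le_normalizer.trans normalizer_le_normalizer_core')
  have hcopO : (Nat.card ↥(A ⊔ T)).Coprime (Nat.card O) := by
    refine Nat.Coprime.coprime_dvd_left (card_sup_dvd_of_le_normalizer hTA) (Nat.Coprime.mul_left (h.copA hOK) ?_)
    obtain ⟨i, hi⟩ := IsPGroup.iff_card.1 hT.isPGroup
    rw [hi]
    exact Nat.Coprime.pow_left _ ((Fact.out : r.Prime).coprime_iff_not_dvd.2 core'_not_dvd)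
  refine le_of_sylows fun t ht => ?_
  haveI := Fact.mk ht
  obtain ⟨W, hW, hWAT⟩ := exists_invariant_sylow (sup_le hOA hTO) hcopO
    (Or.inr (isSolvable_of_le core'_le hUs)) t
  refine ⟨W, hW, ?_⟩
  by_cases htr : t = r
  · subst htr
    rw [show W = ⊥ from card_eq_one.1 (by
      rw [hW.2, Nat.factorization_eq_zero_of_not_dvd core'_not_dvd, pow_zero])]
    exact bot_le
  have hWK : W ≤ K := hW.1.trans hOK
  have hWT : T ⊓ centralizer {e} ≤ normalizer (W : Set Γ) := inf_le_left.trans (le_sup_right.trans hWAT)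
  have hc2 : ∀ Z ≤ T, (Nat.card Z).Coprime (Nat.card W) := fun Z hZ =>
    coprime_of_isPGroup (Ne.symm htr) (hT.isPGroup.to_le hZ) hW.isPGroup
  have hkey : Y ≤ centralizer ((⁅W, T ⊓ centralizer {e}⁆ : Subgroup Γ) : Set Γ) :=
    h.centralizes_commutator he he1 hf hef hWK hW.isPGroup (le_sup_left.trans hWAT)
      (inf_le_inf_right _ (inf_le_left.trans hR.1)) hTeA (inf_le_inf_right _ hR.1) hYA hWT
      (hYT.trans (le_sup_right.trans hWAT)) (hc2 _ inf_le_left) (hc2 _ hYT) fun x hx y hy => by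
        rw [commutatorElement_eq_one_iff_mul_comm.2 (mem_centralizer_iff.1 (hTc hy.1) x (hYT hx))]
        exact one_mem _
  rw [← commutator_sup_centralizer hWT (hc2 _ inf_le_left) (Or.inr (solvable_of_isPGroup hW.isPGroup)),
    sup_le_iff]
  refine ⟨le_trans (le_inf ((commutator_le_self_of_le_normalizer hWT).trans hWK)
    ((le_centralizer_iff.1 hkey).trans (centralizer_le_normalizer _))) (hV.loc Y inf_le_left hYne hYA),
    le_trans (inf_le_inf hWK (centralizer_le_normalizer _)) (hV.loc _ hTeR hTe1 hTeA)⟩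

theorem absurd' : False := by
  classical
  -- an odd prime divisor
  obtain ⟨p, hp, hp2, hpd⟩ : ∃ p, p.Prime ∧ p ≠ 2 ∧ p ∣ Nat.card K := by
    by_contra hc
    push Not at hc
    have h2 : IsPGroup 2 K := IsPGroup.of_card (Nat.eq_prime_pow_of_unique_prime_dvd Nat.card_pos.ne'
        fun {d} hd hdd => by_contra fun hd2 => (hc d hd hd2 hdd).elim)
    haveI := Fact.mk Nat.prime_two
    exact h.ne_of_pgroup h2 rfl
  haveI := Fact.mk hp
  obtain ⟨P, hP, hPA⟩ := h.exists_sylow p
  obtain ⟨U, hU⟩ := h.exists_over hP hPA hpd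
  obtain ⟨a, ha, ha1, hfree⟩ : ∃ a ∈ A, a ≠ 1 ∧ U ⊓ centralizer {a} = ⊥ := by
    by_contra hc
    push Not at hc
    refine hU.ne (le_antisymm hU.le (h.le_of_fix le_rfl h.norm fun a ha ha1 => ?_))
    have hne := hc a ha ha1
    obtain ⟨r, hr, hrd⟩ := Nat.exists_prime_and_dvd (fun e => hne (card_eq_one.1 e) :
      Nat.card ↥(U ⊓ centralizer {a} : Subgroup Γ) ≠ 1)
    haveI := Fact.mk hr
    have hUa : U ⊓ centralizer {a} ≤ U := inf_le_left
    obtain ⟨X, hX, hXA⟩ := exists_invariant_sylow (h.inv_fix hU.inv ha) (h.copA (hUa.trans hU.le))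
      (Or.inl h.solvA) r
    have hX1 : X ≠ ⊥ := fun e => by
      have hc := hX.2
      rw [e, card_bot] at hc
      have := hr.factorization_pos_of_dvd Nat.card_pos.ne' hrd
      exact absurd (Nat.le_of_dvd one_pos (hc ▸ dvd_pow_self r this.ne')) (not_le.2 hr.one_lt)
    have hrU : r ∣ Nat.card U := hrd.trans (card_dvd_of_le inf_le_left)
    obtain ⟨R, hR, hRA⟩ := h.exists_sylow r
    obtain ⟨V, hV⟩ := h.exists_over hR hRA (hrU.trans (card_dvd_of_le hU.le))
    have hUV : U ≤ V := hV.max U hU.le hU.ne hU.inv (h.sylow_le_over hP hPA hU hrU hR hRA)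
    have hVU : V ≤ U := hU.max V hV.le hV.ne hV.inv (hU.sylow.trans hUV)
    have hXK : X ≤ K := (hX.1.trans inf_le_left).trans hU.le
    refine le_trans ?_ ((hV.loc X (h.le_sylow hR hRA hXK hX.isPGroup hXA) hX1 hXA).trans hVU)
    refine le_inf inf_le_left fun x hx => centralizer_le_normalizer _ (mem_centralizer_iff.2 fun y hy => ?_)
    exact h.comm a ha ha1 y ⟨hXK hy, (hX.1 hy).2⟩ x hx
  -- `U` is nilpotent
  have hnil : Group.IsNilpotent U := by
    let φ : MulAut U := U.normalizerMonoidHom ⟨a, hU.inv ha⟩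
    have hφ : ∀ m : U, (φ m : Γ) = a * m * a⁻¹ := fun m => rfl
    have hit : ∀ (j : ℕ) (m : U), ((φ : U → U)^[j] m : Γ) = a ^ j * m * (a ^ j)⁻¹ := by
      intro j
      induction j with
      | zero => intro m; simp
      | succ j ih =>
        intro m
        rw [Function.iterate_succ_apply', hφ, ih, pow_succ']
        group
    refine CfsgLib.PGroup.isNilpotent_of_fixedPointFree h.prime _ φ (fun g hg => Subtype.ext ?_)
      fun g => Subtype.ext ?_
    · show (g : Γ) = 1
      rw [← mem_bot, ← hfree]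
      exact ⟨g.2, mem_fix_of_conj_eq ((hφ g).symm.trans (congrArg Subtype.val hg))⟩
    · rw [hit, show a ^ q = 1 by rw [← h.orderOf_eq ha ha1, pow_orderOf_eq_one]]
      simp
  have hUc : Cfsg.HasNormalPComplement p U := hasNormalPComplement_of_isNilpotent hnil
  refine h.no_complement hpd (CfsgLib.Fusion.hasNormalPComplement_of_thompson hp2 K hP.toSylow ?_ ?_)
  all_goals refine CfsgLib.Fusion.hasNormalPComplement_of_map (K := U) ?_ hUc
  · set J := Cfsg.thompsonSubgroupOf p P
    have hJ : (Cfsg.thompsonSubgroupOf p (hP.toSylow : Subgroup K)).map K.subtype = J := by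
      rw [CfsgLib.Fusion.map_thompsonSubgroupOf K.subtype (fun x _ hx => Subtype.ext hx), hP.map_toSylow]
    refine le_trans (le_inf (map_subtype_le _) ((le_normalizer_map K.subtype).trans ?_))
      (hU.loc J (CfsgLib.Fusion.thompsonSubgroupOf_le P)
        (CfsgLib.Fusion.thompsonSubgroupOf_ne_bot hP.isPGroup (h.sylow_ne_bot hP hPA hpd))
        (hPA.trans (CfsgLib.Fusion.normalizer_le_normalizer_thompsonSubgroupOf P)))
    rw [hJ]
  · refine le_trans (le_inf (map_subtype_le _) ?_) (hU.loc (CfsgLib.Fusion.centerOf P) inf_le_left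
      (CfsgLib.Fusion.centerOf_ne_bot hP.isPGroup (h.sylow_ne_bot hP hPA hpd))
      (hPA.trans (CfsgLib.Fusion.normalizer_le_normalizer_centerOf P)))
    rintro _ ⟨g, hg, rfl⟩
    refine centralizer_le_normalizer _ (mem_centralizer_iff.2 fun z hz => ?_)
    refine congrArg Subtype.val (mem_centralizer_iff.1 hg ⟨z, hP.1 hz.1⟩ ⟨mem_subgroupOf.2 hz.1, ?_⟩)
    exact mem_centralizer_iff.2 fun w hw => Subtype.ext (mem_centralizer_iff.1 hz.2 w (mem_subgroupOf.1 hw))

end Min

theorem solvable_aux : ∀ (n : ℕ) {Γ : Type u} [Group Γ] [Finite Γ] {q : ℕ} {A K : Subgroup Γ},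
    Fix q A K → Nat.card K = n → Group.IsSolvable K := by
  intro n
  induction n using Nat.strong_induction_on with
  | _ n ih =>
  intro Γ _ _ q A K h hn
  have hsub : ∀ H ≤ K, H ≠ K → A ≤ normalizer (H : Set Γ) → Group.IsSolvable H := fun H hH hne hA =>
    ih _ (hn ▸ lt_of_not_ge fun hc => hne (eq_of_le_of_card_ge hH hc)) (h.mono hH hA) rfl
  have hmin : ∀ N ≤ K, A ≤ normalizer (N : Set Γ) → K ≤ normalizer (N : Set Γ) →
      ¬ Group.IsSolvable K → N = ⊥ ∨ N = K := by
    intro N hN hNA hKN hns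
    by_contra hc
    push Not at hc
    haveI : (N.subgroupOf (normalizer (N : Set Γ))).Normal :=
      (normal_subgroupOf_iff_le_normalizer le_normalizer).2 le_rfl
    have hq := ih _ (hn ▸ card_qimg_lt hc.1 hN hKN) (h.quot hN le_rfl h.norm hNA hKN) rfl
    haveI := hsub N hN hc.2 hNA
    haveI := hq
    set π := QuotientGroup.mk' (N.subgroupOf (normalizer (N : Set Γ)))
    let f : K →* qimg N K := (π.comp (inclusion hKN)).codRestrict _
      fun x => mem_map_of_mem _ (show inclusion hKN x ∈ K.subgroupOf _ from x.2)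
    haveI : Group.IsSolvable f.ker := by
      refine Group.isSolvable_of_isSolvable_injective (f := ((K.subtype.comp f.ker.subtype).codRestrict N
        fun x => mem_subgroupOf.1 ((QuotientGroup.eq_one_iff (inclusion hKN x.1)).1
          (congrArg Subtype.val x.2)))) fun x y hxy => Subtype.ext (Subtype.ext (congrArg Subtype.val hxy :))
    exact hns (Group.isSolvable_of_ker_le_range f.ker.subtype f (f.ker.range_subtype).ge)
  by_contra hns
  have hfpf : K ⊓ centralizer (A : Set Γ) = ⊥ := by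
    set Z := K ⊓ centralizer (K : Set Γ)
    have hle : K ⊓ centralizer (A : Set Γ) ≤ Z := by
      refine le_inf inf_le_left (le_centralizer_iff.1 (h.le_of_fix le_rfl h.norm fun a ha ha1 y hy => ?_))
      exact mem_centralizer_iff.2 fun x hx => h.comm a ha ha1 x
        ⟨hx.1, mem_centralizer_singleton_iff.2 (mem_centralizer_iff.1 hx.2 a ha).symm⟩ y hy
    rcases hmin Z inf_le_left (inf_le_normalizer h.norm (h.norm.trans (normalizer_le_normalizer_centralizer _)))
      (inf_le_normalizer le_normalizer (le_normalizer.trans (normalizer_le_normalizer_centralizer _))) hns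
      with e | e
    · exact le_bot_iff.1 (hle.trans e.le)
    · exact absurd (isSolvable_of_isMulCommutative ⟨⟨fun a b => Subtype.ext
        (mem_centralizer_iff.1 ((e.ge b.2).2) a a.2)⟩⟩) hns
  exact (show Min q A K from
    { toHyp := ⟨h, hfpf⟩
      solv := hsub
      minimal := fun N h1 h2 h3 => hmin N h1 h2 h3 hns
      nsolv := hns }).absurd'

/-- A group of type `(q,q)` with abelian fixed groups acts only on solvable groups. -/
theorem Fix.solvable (h : Fix q A K) : Group.IsSolvable K := solvable_aux _ h rfl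

end CfsgLib.Coprime.SquareFixed
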