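import Cfsg.Agent.Lib.Coprime.Action
import Cfsg.Agent.Lib.Coprime.MinimalNonNilpotent
import Cfsg.Agent.Lib.Coprime.BenderPair
import Cfsg.Agent.Lib.PGroup.FixedPointFree
import Cfsg.Agent.Lib.CFun.OddTypePBasic
import Mathlib.GroupTheory.PGroup

/-!
# A group of type `(q,q)` with abelian fixed groups

`A` and `K` are subgroups of an ambient group, `A` of order `q²` is not cyclic, normalizes `K`, `q` does
not divide the order of `K`, and the fixed groups of the non-identity elements of `A` on `K` are abelian.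
-/

set_option autoImplicit false
set_option linter.style.haveILetI false
set_option linter.unusedSectionVars false

namespace CfsgLib.Coprime.SquareFixed

open Subgroup
open scoped commutatorElement

universe u

variable {Γ : Type u} [Group Γ]

/-- The action with abelian fixed groups. -/
structure Fix (q : ℕ) (A K : Subgroup Γ) : Prop where
  prime : q.Prime
  card : Nat.card A = q ^ 2
  ncyc : ¬ IsCyclic A
  norm : A ≤ normalizer (K : Set Γ)
  cop : ¬ q ∣ Nat.card K
  comm : ∀ a ∈ A, a ≠ 1 → ∀ x ∈ K ⊓ centralizer {a}, ∀ y ∈ K ⊓ centralizer {a}, x * y = y * x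

/-- Moreover only the identity is fixed by all of `A`. -/
structure Hyp (q : ℕ) (A K : Subgroup Γ) : Prop extends Fix q A K where
  fpf : K ⊓ centralizer (A : Set Γ) = ⊥

theorem mem_centralizer_iff_comm {a x : Γ} : x ∈ centralizer ({a} : Set Γ) ↔ x * a = a * x :=
  mem_centralizer_singleton_iff

theorem fix_conj_eq {a x : Γ} (h : x ∈ centralizer ({a} : Set Γ)) : a * x * a⁻¹ = x :=
  mul_inv_eq_iff_eq_mul.2 (mem_centralizer_singleton_iff.1 h).symm

theorem mem_fix_of_conj_eq {a x : Γ} (h : a * x * a⁻¹ = x) : x ∈ centralizer ({a} : Set Γ) :=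
  mem_centralizer_singleton_iff.2 (mul_inv_eq_iff_eq_mul.1 h).symm

theorem zpowers_le_centralizer {a : Γ} {H : Subgroup Γ} (h : ∀ x ∈ H, x ∈ centralizer ({a} : Set Γ)) :
    zpowers a ≤ centralizer (H : Set Γ) := zpowers_le.2 (mem_centralizer_iff.2 fun x hx =>
  mem_centralizer_singleton_iff.1 (h x hx))

/-- A subgroup normalizing two subgroups normalizes their commutator. -/
theorem le_normalizer_commutator {X Y Z : Subgroup Γ} (hX : Z ≤ normalizer (X : Set Γ))
    (hY : Z ≤ normalizer (Y : Set Γ)) : Z ≤ normalizer ((⁅X, Y⁆ : Subgroup Γ) : Set Γ) := by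
  intro z hz
  rw [← conjBy_eq_self_iff, conjBy, map_commutator]
  exact congrArg₂ _ (conjBy_eq_self_iff.2 (hX hz)) (conjBy_eq_self_iff.2 (hY hz))

/-- A characteristic subgroup of `H` is normalized by the normalizer of `H`. -/
theorem normalizer_le_normalizer_map (H : Subgroup Γ) (M : Subgroup H) [hM : M.Characteristic] :
    normalizer (H : Set Γ) ≤ normalizer ((M.map H.subtype : Subgroup Γ) : Set Γ) := by
  intro g hg
  rw [← conjBy_eq_self_iff, conjBy, map_map]
  have h := characteristic_iff_map_eq.1 hM (H.normalizerMonoidHom ⟨g, hg⟩)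
  conv_rhs => rw [← h, map_map]
  rfl

theorem commutator_mem_of_le_normalizer {H X : Subgroup Γ} (h : X ≤ normalizer (H : Set Γ))
    {u x : Γ} (hu : u ∈ H) (hx : x ∈ X) : ⁅u, x⁆ ∈ H := by
  rw [commutatorElement_def, mul_assoc, mul_assoc]
  refine mul_mem hu ?_
  rw [← mul_assoc]
  exact conj_mem_of_le_normalizer h hx (inv_mem hu)

theorem commutator_le_self_of_le_normalizer {H X : Subgroup Γ} (h : X ≤ normalizer (H : Set Γ)) :
    ⁅H, X⁆ ≤ H :=
  commutator_le.2 fun _ hu _ hx => commutator_mem_of_le_normalizer h hu hx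

variable [Finite Γ] {q : ℕ} {A K : Subgroup Γ}

namespace Fix

variable (h : Fix q A K)
include h

theorem commA {a b : Γ} (ha : a ∈ A) (hb : b ∈ A) : a * b = b * a := by
  haveI := Fact.mk h.prime
  letI := IsPGroup.commGroupOfCardEqPrimeSq h.card
  exact congrArg Subtype.val (mul_comm (⟨a, ha⟩ : A) ⟨b, hb⟩)

theorem isMulCommutative : IsMulCommutative A :=
  ⟨⟨fun a b => Subtype.ext (h.commA a.2 b.2)⟩⟩

theorem solvA : Group.IsSolvable A := isSolvable_of_isMulCommutative h.isMulCommutative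

theorem le_centralizer_A : A ≤ centralizer (A : Set Γ) := fun _ ha =>
  mem_centralizer_iff.2 fun _ hb => h.commA hb ha

theorem orderOf_eq {a : Γ} (ha : a ∈ A) (ha1 : a ≠ 1) : orderOf a = q := by
  obtain ⟨i, hi, hi'⟩ := (Nat.dvd_prime_pow h.prime).1 (h.card ▸ orderOf_dvd_natCard _ ha)
  rcases i with _ | _ | _ | i
  · rw [pow_zero, orderOf_eq_one_iff] at hi'
    exact absurd hi' ha1
  · simpa using hi'
  · exact absurd (isCyclic_of_orderOf_eq_card (⟨a, ha⟩ : A) (by
      rw [← Subgroup.orderOf_coe, h.card]; exact hi')) h.ncyc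
  · omega

theorem card_zpowers {a : Γ} (ha : a ∈ A) (ha1 : a ≠ 1) : Nat.card (zpowers a) = q := by
  rw [Nat.card_zpowers, h.orderOf_eq ha ha1]

theorem zpowers_eq_of_mem {a b : Γ} (ha : a ∈ A) (ha1 : a ≠ 1) (hb : b ∈ zpowers a) (hb1 : b ≠ 1) :
    zpowers b = zpowers a := by
  refine eq_of_le_of_card_ge (zpowers_le.2 hb) ?_
  rw [h.card_zpowers ha ha1, h.card_zpowers ((zpowers_le.2 ha) hb) hb1]

theorem le_of_two {a b : Γ} (ha : a ∈ A) (ha1 : a ≠ 1) (hb : b ∈ A) (hab : b ∉ zpowers a)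
    {S : Subgroup Γ} (haS : a ∈ S) (hbS : b ∈ S) : A ≤ S := by
  have hT : S ⊓ A = A := by
    refine eq_of_le_of_card_ge inf_le_right ?_
    obtain ⟨i, hi, hi'⟩ := (Nat.dvd_prime_pow h.prime).1
      (h.card ▸ card_dvd_of_le (inf_le_right : S ⊓ A ≤ A))
    have hlt : Nat.card (zpowers a) < Nat.card ↥(S ⊓ A) := by
      have hle : zpowers a ≤ S ⊓ A := zpowers_le.2 ⟨haS, ha⟩
      exact lt_of_le_of_ne (Nat.le_of_dvd Nat.card_pos (card_dvd_of_le hle)) fun e =>
        hab ((eq_of_le_of_card_ge hle e.ge).ge ⟨hbS, hb⟩)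
    rw [h.card_zpowers ha ha1, hi'] at hlt
    rcases i with _ | _ | _ | i
    · have := h.prime.two_le; simp at hlt; omega
    · simp at hlt
    · rw [h.card, hi']
    · omega
  rw [← hT]
  exact inf_le_left

theorem centralizer_two {a b : Γ} (ha : a ∈ A) (ha1 : a ≠ 1) (hb : b ∈ A) (hab : b ∉ zpowers a) :
    centralizer ({a} : Set Γ) ⊓ centralizer {b} ≤ centralizer (A : Set Γ) := by
  intro x hx
  have : A ≤ centralizer ({x} : Set Γ) := h.le_of_two ha ha1 hb hab
    (mem_centralizer_singleton_iff.2 (mem_centralizer_singleton_iff.1 hx.1).symm)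
    (mem_centralizer_singleton_iff.2 (mem_centralizer_singleton_iff.1 hx.2).symm)
  exact mem_centralizer_iff.2 fun c hc => mem_centralizer_singleton_iff.1 (this hc)

theorem exists_third {a b : Γ} (ha : a ∈ A) (ha1 : a ≠ 1) (hb : b ∈ A) (hb1 : b ≠ 1) :
    ∃ g ∈ A, g ≠ 1 ∧ g ∉ zpowers a ∧ g ∉ zpowers b := by
  by_contra hc
  push Not at hc
  have hsub : (A : Set Γ) ⊆ (zpowers a : Set Γ) ∪ ((zpowers b : Set Γ) \ {1}) := by
    intro g hg
    by_cases hg1 : g = 1
    · exact Or.inl (hg1 ▸ one_mem _)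
    by_cases hga : g ∈ zpowers a
    · exact Or.inl hga
    · exact Or.inr ⟨hc g hg hg1 hga, hg1⟩
  have h1 := (Set.ncard_le_ncard hsub (Set.toFinite _)).trans (Set.ncard_union_le _ _)
  have e : ∀ S : Subgroup Γ, (S : Set Γ).ncard = Nat.card S := fun S =>
    (Nat.card_coe_set_eq (S : Set Γ)).symm
  have h2 := Set.ncard_diff_singleton_add_one (show (1 : Γ) ∈ (zpowers b : Set Γ) from one_mem _)
    (Set.toFinite _)
  rw [e, h.card_zpowers hb hb1] at h2
  rw [e, e, h.card, h.card_zpowers ha ha1] at h1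
  have := h.prime.two_le
  nlinarith

theorem exists_other {a : Γ} (ha : a ∈ A) (ha1 : a ≠ 1) : ∃ b ∈ A, b ≠ 1 ∧ b ∉ zpowers a :=
  (h.exists_third ha ha1 ha ha1).imp fun _ ⟨hg, hg1, hga, _⟩ => ⟨hg, hg1, hga⟩

theorem exists_ne_one : ∃ a ∈ A, a ≠ 1 := by
  by_contra hc
  push Not at hc
  have : A = ⊥ := (eq_bot_iff_forall _).2 hc
  have h2 := h.card
  rw [this, card_bot] at h2
  have := h.prime.two_le
  nlinarith

theorem copA {H : Subgroup Γ} (hH : H ≤ K) : (Nat.card A).Coprime (Nat.card H) := by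
  rw [h.card]
  exact Nat.Coprime.pow_left _ (h.prime.coprime_iff_not_dvd.2 fun hd => h.cop (hd.trans (card_dvd_of_le hH)))

theorem copz {a : Γ} (ha : a ∈ A) {H : Subgroup Γ} (hH : H ≤ K) :
    (Nat.card (zpowers a)).Coprime (Nat.card H) :=
  (h.copA hH).coprime_dvd_left (card_dvd_of_le (zpowers_le.2 ha))

/-- Generation by fixed groups. -/
theorem le_of_fix {H W : Subgroup Γ} (hH : H ≤ K) (hA : A ≤ normalizer (H : Set Γ))
    (hW : ∀ a ∈ A, a ≠ 1 → H ⊓ centralizer {a} ≤ W) : H ≤ W := by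
  haveI := h.isMulCommutative
  exact le_of_centralizers_le h.ncyc hA (h.copA hH) hW

theorem exists_fix {H : Subgroup Γ} (hH : H ≤ K) (hA : A ≤ normalizer (H : Set Γ)) (hH1 : H ≠ ⊥) :
    ∃ a ∈ A, a ≠ 1 ∧ H ⊓ centralizer {a} ≠ ⊥ := by
  by_contra hc
  push Not at hc
  exact hH1 (le_bot_iff.1 (h.le_of_fix hH hA fun a ha ha1 => (hc a ha ha1).le))

theorem inv_centralizer_singleton {a : Γ} (ha : a ∈ A) :
    A ≤ normalizer ((centralizer ({a} : Set Γ) : Subgroup Γ) : Set Γ) := by
  refine fun b hb => Subgroup.le_normalizer ?_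
  exact mem_centralizer_singleton_iff.2 (h.commA hb ha)

theorem inv_fix {H : Subgroup Γ} (hA : A ≤ normalizer (H : Set Γ)) {a : Γ} (ha : a ∈ A) :
    A ≤ normalizer ((H ⊓ centralizer {a} : Subgroup Γ) : Set Γ) :=
  inf_le_normalizer hA (h.inv_centralizer_singleton ha)

theorem mono {K' : Subgroup Γ} (hK : K' ≤ K) (hA : A ≤ normalizer (K' : Set Γ)) : Fix q A K' where
  prime := h.prime
  card := h.card
  ncyc := h.ncyc
  norm := hA
  cop hd := h.cop (hd.trans (card_dvd_of_le hK))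
  comm a ha ha1 x hx y hy := h.comm a ha ha1 x ⟨hK hx.1, hx.2⟩ y ⟨hK hy.1, hy.2⟩

/-- A coset fixed by `a` contains a fixed element. -/
theorem lift_fixed {a : Γ} (ha : a ∈ A) {N : Subgroup Γ} (hN : N ≤ K) (haN : a ∈ normalizer (N : Set Γ))
    {x : Γ} (hx : x ∈ normalizer (N : Set Γ)) (hfix : ⁅a, x⁆ ∈ N) :
    ∃ n ∈ N, x * n ∈ centralizer ({a} : Set Γ) := by
  have hza : zpowers a ≤ normalizer (N : Set Γ) := zpowers_le.2 haN
  haveI hnorm : (N.subgroupOf (normalizer (N : Set Γ))).Normal :=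
    (normal_subgroupOf_iff_le_normalizer le_normalizer).2 le_rfl
  have hall : ∀ b ∈ zpowers a, b * x * b⁻¹ * x⁻¹ ∈ N := by
    rintro b ⟨m, rfl⟩
    have h1 : (QuotientGroup.mk' (N.subgroupOf (normalizer (N : Set Γ)))) ⁅(⟨a, haN⟩ : normalizer (N : Set Γ)), ⟨x, hx⟩⁆ = 1 :=
      (QuotientGroup.eq_one_iff _).2 (mem_subgroupOf.2 (by simpa [commutatorElement_def] using hfix))
    rw [map_commutatorElement, commutatorElement_eq_one_iff_commute] at h1
    have h2 := commutatorElement_eq_one_iff_commute.2 (h1.zpow_left m)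
    rw [← map_zpow, ← map_commutatorElement, QuotientGroup.mk'_apply, QuotientGroup.eq_one_iff,
      mem_subgroupOf] at h2
    simpa [commutatorElement_def] using h2
  obtain ⟨n, hn, hc⟩ := exists_fixed_in_coset (A := zpowers a) (N := N) hza (h.copz ha hN)
    (Or.inl (isSolvable_of_le (zpowers_le.2 ha) h.solvA)) hx hall
  exact ⟨n, hn, mem_centralizer_singleton_iff.2 (mem_centralizer_iff.1 hc a (mem_zpowers a)).symm⟩

/-- A fixed-point-free element of `A` on two subgroups of coprime order, one normalizing the other,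
makes them commute (modulo a normal subgroup). -/
theorem fpf_commute {a : Γ} (ha : a ∈ A) (ha1 : a ≠ 1) {U X N : Subgroup Γ} (hU : U ≤ K) (hX : X ≤ K)
    (hN : N ≤ U) (haU : a ∈ normalizer (U : Set Γ)) (haX : a ∈ normalizer (X : Set Γ))
    (haN : a ∈ normalizer (N : Set Γ)) (hUN : U ≤ normalizer (N : Set Γ))
    (hXN : X ≤ normalizer (N : Set Γ)) (hXU : X ≤ normalizer (U : Set Γ))
    (hco : (Nat.card X).Coprime (Nat.card U)) (hfU : U ⊓ centralizer {a} ≤ N)
    (hfX : X ⊓ centralizer {a} = ⊥) : ∀ u ∈ U, ∀ x ∈ X, ⁅u, x⁆ ∈ N := by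
  classical
  set M := U ⊔ X with hM
  have hMN : M ≤ normalizer (N : Set Γ) := sup_le hUN hXN
  haveI : (N.subgroupOf M).Normal := (normal_subgroupOf_iff_le_normalizer (hN.trans le_sup_left)).2 hMN
  have haM : a ∈ normalizer (M : Set Γ) :=
    (sup_le_normalizer (zpowers_le.2 haU) (zpowers_le.2 haX)) (mem_zpowers a)
  let φ : MulAut M := M.normalizerMonoidHom ⟨a, haM⟩
  have hφv : ∀ m : M, (φ m : Γ) = a * m * a⁻¹ := fun m => rfl
  have hmap : (N.subgroupOf M).map (φ : M →* M) = N.subgroupOf M := by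
    refine eq_of_le_of_card_ge ?_ (card_map_of_injective φ.injective).ge
    rintro _ ⟨m, hm, rfl⟩
    exact mem_subgroupOf.2 (conj_mem_of_le_normalizer (zpowers_le.2 haN) (mem_zpowers a) hm)
  let ψ : M ⧸ N.subgroupOf M ≃* M ⧸ N.subgroupOf M := QuotientGroup.congr _ _ φ hmap
  have hit : ∀ (j : ℕ) (m : M), ((φ : M → M)^[j] m : Γ) = a ^ j * m * (a ^ j)⁻¹ := by
    intro j
    induction j with
    | zero => intro m; simp
    | succ j ih =>
      intro m
      rw [Function.iterate_succ_apply', hφv, ih, pow_succ']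
      group
  have hq : ∀ g, (ψ : _ → _)^[q] g = g := by
    intro g
    induction g using QuotientGroup.induction_on with
    | H m =>
      have e : ∀ j : ℕ, (ψ : _ → _)^[j] (QuotientGroup.mk m) = QuotientGroup.mk ((φ : M → M)^[j] m) := by
        intro j
        induction j with
        | zero => rfl
        | succ j ih => rw [Function.iterate_succ_apply', Function.iterate_succ_apply', ih]; rfl
      rw [e]
      congr 1
      apply Subtype.ext
      rw [hit, show a ^ q = 1 by rw [← h.orderOf_eq ha ha1, pow_orderOf_eq_one]]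
      simp
  have hfpf : MonoidHom.FixedPointFree ψ := by
    intro g hg
    induction g using QuotientGroup.induction_on with
    | H m =>
      have h1 : ⁅a, (m : Γ)⁆ ∈ N := by
        have h2 := QuotientGroup.eq.1 (show (QuotientGroup.mk (φ m) : M ⧸ N.subgroupOf M) = QuotientGroup.mk m from hg)
        rw [mem_subgroupOf, coe_mul, coe_inv, hφv] at h2
        have h4 : (m : Γ) * ((m : Γ)⁻¹ * (a * m * a⁻¹)) * (m : Γ)⁻¹ ∈ N :=
          conj_mem_of_le_normalizer hMN m.2 (by
            have := inv_mem h2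
            rwa [mul_inv_rev, inv_inv] at this)
        rwa [commutatorElement_def, show a * (m : Γ) * a⁻¹ * (m : Γ)⁻¹ =
          (m : Γ) * ((m : Γ)⁻¹ * (a * m * a⁻¹)) * (m : Γ)⁻¹ by group]
      obtain ⟨n, hn, hc⟩ := h.lift_fixed ha (hN.trans hU) haN (hMN m.2) h1
      obtain ⟨u, hu, x, hx, e⟩ := mem_sup_exists hXU
        (mul_mem m.2 ((hN.trans le_sup_left : N ≤ M) hn))
      have hfix := fix_conj_eq hc
      rw [← e, show a * (u * x) * a⁻¹ = (a * u * a⁻¹) * (a * x * a⁻¹) by group] at hfix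
      have hau : a * u * a⁻¹ ∈ U := conj_mem_of_le_normalizer (zpowers_le.2 haU) (mem_zpowers a) hu
      have hax : a * x * a⁻¹ ∈ X := conj_mem_of_le_normalizer (zpowers_le.2 haX) (mem_zpowers a) hx
      have hmem : (a * x * a⁻¹) * x⁻¹ ∈ X ⊓ U := by
        refine Subgroup.mem_inf.2 ⟨mul_mem hax (inv_mem hx), ?_⟩
        rw [show (a * x * a⁻¹) * x⁻¹ = (a * u * a⁻¹)⁻¹ * ((a * u * a⁻¹) * (a * x * a⁻¹)) * x⁻¹ by group, hfix,
          show (a * u * a⁻¹)⁻¹ * (u * x) * x⁻¹ = (a * u * a⁻¹)⁻¹ * u by group]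
        exact mul_mem (inv_mem hau) hu
      rw [disjoint_iff.1 (disjoint_of_coprime_natCard hco), mem_bot, mul_inv_eq_one] at hmem
      have hx1 : x = 1 := by
        rw [← mem_bot, ← hfX]
        exact ⟨hx, mem_fix_of_conj_eq hmem⟩
      rw [hx1, mul_one] at e
      have huN : u ∈ N := hfU ⟨hu, e ▸ hc⟩
      apply (QuotientGroup.eq_one_iff m).2
      rw [mem_subgroupOf, show (m : Γ) = u * n⁻¹ by rw [e]; group]
      exact mul_mem huN (inv_mem hn)
  haveI := CfsgLib.PGroup.isNilpotent_of_fixedPointFree h.prime _ ψ hfpf hq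
  intro u hu x hx
  set π := QuotientGroup.mk' (N.subgroupOf M)
  have hcomm : Commute (π ⟨u, le_sup_left (a := U) hu⟩) (π ⟨x, le_sup_right (b := X) hx⟩) := by
    refine CfsgLib.CFun.commute_of_coprime_order ?_
    refine Nat.Coprime.coprime_dvd_left (orderOf_map_dvd π _) ?_
    refine Nat.Coprime.coprime_dvd_right (orderOf_map_dvd π _) ?_
    rw [← Subgroup.orderOf_coe, ← Subgroup.orderOf_coe]
    exact (hco.symm.coprime_dvd_left (orderOf_dvd_natCard _ hu)).coprime_dvd_right
      (orderOf_dvd_natCard _ hx)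
  have h2 := commutatorElement_eq_one_iff_commute.2 hcomm
  rw [← map_commutatorElement, QuotientGroup.mk'_apply, QuotientGroup.eq_one_iff, mem_subgroupOf] at h2
  simpa [commutatorElement_def] using h2

end Fix

namespace Hyp

variable (h : Hyp q A K)
include h

theorem fix_two {a b : Γ} (ha : a ∈ A) (ha1 : a ≠ 1) (hb : b ∈ A) (hab : b ∉ zpowers a) {x : Γ}
    (hx : x ∈ K) (hxa : x ∈ centralizer ({a} : Set Γ)) (hxb : x ∈ centralizer ({b} : Set Γ)) : x = 1 := by
  rw [← mem_bot, ← h.fpf]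
  exact ⟨hx, h.centralizer_two ha ha1 hb hab ⟨hxa, hxb⟩⟩

theorem mono {K' : Subgroup Γ} (hK : K' ≤ K) (hA : A ≤ normalizer (K' : Set Γ)) : Hyp q A K' where
  toFix := h.toFix.mono hK hA
  fpf := le_bot_iff.1 ((inf_le_inf_right _ hK).trans h.fpf.le)

/-- A subgroup fixed by one element has no fixed points under an element of another line. -/
theorem fix_inf_eq_bot {a b : Γ} (ha : a ∈ A) (ha1 : a ≠ 1) (hb : b ∈ A) (hab : b ∉ zpowers a)
    {X : Subgroup Γ} (hX : X ≤ K ⊓ centralizer {a}) : X ⊓ centralizer {b} = ⊥ :=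
  (eq_bot_iff_forall _).2 fun _ hx => h.fix_two ha ha1 hb hab (hX hx.1).1 (hX hx.1).2 hx.2

end Hyp

section Quotient

variable {N : Subgroup Γ}

/-- The projection of a subgroup to `N_Γ(N) / N`. -/
def qimg (N H : Subgroup Γ) [(N.subgroupOf (normalizer (N : Set Γ))).Normal] :
    Subgroup (↥(normalizer (N : Set Γ)) ⧸ N.subgroupOf (normalizer (N : Set Γ))) :=
  (H.subgroupOf (normalizer (N : Set Γ))).map (QuotientGroup.mk' _)

variable [(N.subgroupOf (normalizer (N : Set Γ))).Normal]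

theorem mem_qimg {H : Subgroup Γ} {g : normalizer (N : Set Γ)} (hH : N ≤ H) :
    QuotientGroup.mk' (N.subgroupOf (normalizer (N : Set Γ))) g ∈ qimg N H ↔ (g : Γ) ∈ H := by
  constructor
  · rintro ⟨y, hy, e⟩
    rw [QuotientGroup.mk'_apply, QuotientGroup.mk'_apply, QuotientGroup.eq, mem_subgroupOf, coe_mul,
      coe_inv] at e
    have := mul_mem (show (y : Γ) ∈ H from hy) (hH e)
    rwa [mul_inv_cancel_left] at this
  · exact fun hg => mem_map_of_mem _ hg

theorem card_qimg {H : Subgroup Γ} (hH : H ≤ normalizer (N : Set Γ)) :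
    Nat.card (qimg N H) ∣ Nat.card H :=
  (card_map_dvd _ _).trans (dvd_of_eq (Nat.card_congr (subgroupOfEquivOfLe hH).toEquiv))

theorem card_qimg_lt (hN : N ≠ ⊥) {H : Subgroup Γ} (hNH : N ≤ H) (hH : H ≤ normalizer (N : Set Γ)) :
    Nat.card (qimg N H) < Nat.card H := by
  have e := card_eq_card_mul_card_map_mk' (N.subgroupOf (normalizer (N : Set Γ)))
    (M := H.subgroupOf (normalizer (N : Set Γ))) (comap_mono hNH)
  rw [Nat.card_congr (subgroupOfEquivOfLe hH).toEquiv,
    Nat.card_congr (subgroupOfEquivOfLe (le_normalizer (H := N))).toEquiv] at e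
  rw [e]
  exact lt_mul_left Nat.card_pos ((one_lt_card_iff_ne_bot N).2 hN)

theorem le_normalizer_qimg {X H : Subgroup Γ} (hX : X ≤ normalizer (H : Set Γ))
    (hXN : X ≤ normalizer (N : Set Γ)) :
    qimg N X ≤ normalizer (qimg N H : Set (↥(normalizer (N : Set Γ)) ⧸ N.subgroupOf (normalizer (N : Set Γ)))) := by
  refine le_trans (map_mono ?_) (le_normalizer_map _)
  intro x hx
  exact mem_normalizer_iff.2 fun y => mem_normalizer_iff.1 (hX hx) y

variable {K' : Subgroup Γ}

/-- The hypotheses pass to invariant sections. -/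
theorem Fix.quot (h : Fix q A K) (hN : N ≤ K') (hK : K' ≤ K) (hKA : A ≤ normalizer (K' : Set Γ))
    (hNA : A ≤ normalizer (N : Set Γ)) (hKN : K' ≤ normalizer (N : Set Γ)) :
    Fix q (qimg N A) (qimg N K') := by
  set π := QuotientGroup.mk' (N.subgroupOf (normalizer (N : Set Γ)))
  have hinj : Function.Injective (π.comp (A.subgroupOf (normalizer (N : Set Γ))).subtype) := by
    rw [injective_iff_map_eq_one]
    intro x hx
    rw [MonoidHom.comp_apply, QuotientGroup.mk'_apply, QuotientGroup.eq_one_iff, mem_subgroupOf] at hx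
    have : ((x : normalizer (N : Set Γ)) : Γ) ∈ A ⊓ N := ⟨x.2, hx⟩
    rw [disjoint_iff.1 (disjoint_of_coprime_natCard (h.copA (hN.trans hK))), mem_bot] at this
    exact Subtype.ext (Subtype.ext this)
  have e : A ≃* qimg N A := (subgroupOfEquivOfLe hNA).symm.trans
    ((MonoidHom.ofInjective hinj).trans (MulEquiv.subgroupCongr (by
      rw [qimg, MonoidHom.range_comp, range_subtype])))
  refine ⟨h.prime, (Nat.card_congr e.toEquiv).symm.trans h.card, fun hc => h.ncyc ?_,
    le_normalizer_qimg hKA hNA, fun hd => h.cop ((hd.trans (card_qimg hKN)).trans (card_dvd_of_le hK)), ?_⟩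
  · haveI := hc
    exact isCyclic_of_injective (f := e.toMonoidHom) e.injective
  rintro _ ⟨a, ha, rfl⟩ ha1 x hx y hy
  have ha1' : (a : Γ) ≠ 1 := fun he => ha1 (by rw [show a = 1 from Subtype.ext he, map_one])
  have key : ∀ z ∈ qimg N K' ⊓ centralizer {π a}, ∃ w : normalizer (N : Set Γ),
      π w = z ∧ (w : Γ) ∈ K ⊓ centralizer {(a : Γ)} := by
    rintro _ ⟨⟨g, hg, rfl⟩, hz⟩
    have h1 : ⁅(a : Γ), (g : Γ)⁆ ∈ N := by
      have h2 : π ⁅a, g⁆ = 1 := by
        rw [map_commutatorElement, commutatorElement_eq_one_iff_commute]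
        exact (mem_centralizer_singleton_iff.1 hz).symm
      rw [QuotientGroup.mk'_apply, QuotientGroup.eq_one_iff, mem_subgroupOf] at h2
      simpa [commutatorElement_def] using h2
    obtain ⟨n, hn, hc⟩ := h.lift_fixed ha (hN.trans hK) a.2 g.2 h1
    refine ⟨g * ⟨n, le_normalizer hn⟩, ?_, Subgroup.mem_inf.2 ⟨?_, ?_⟩⟩
    · rw [map_mul, show π ⟨n, le_normalizer hn⟩ = 1 from (QuotientGroup.eq_one_iff _).2 hn, mul_one]
    · exact hK (mul_mem (show (g : Γ) ∈ K' from hg) (hN hn))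
    · exact hc
  obtain ⟨v, rfl, hv⟩ := key x hx
  obtain ⟨w, rfl, hw⟩ := key y hy
  rw [← map_mul, ← map_mul]
  exact congrArg π (Subtype.ext (h.comm _ ha ha1' _ hv _ hw))

theorem Hyp.quot (h : Hyp q A K) (hN : N ≤ K') (hK : K' ≤ K) (hKA : A ≤ normalizer (K' : Set Γ))
    (hNA : A ≤ normalizer (N : Set Γ)) (hKN : K' ≤ normalizer (N : Set Γ)) :
    Hyp q (qimg N A) (qimg N K') where
  toFix := h.toFix.quot hN hK hKA hNA hKN
  fpf := by
    rw [eq_bot_iff]
    rintro _ ⟨⟨g, hg, rfl⟩, hz⟩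
    have h1 : ∀ a ∈ A, a * (g : Γ) * a⁻¹ * (g : Γ)⁻¹ ∈ N := by
      intro a ha
      have hz' := mem_centralizer_iff.1 hz (QuotientGroup.mk' _ (⟨a, hNA ha⟩ : normalizer (N : Set Γ)))
        (mem_map_of_mem _ ha)
      have h2 : QuotientGroup.mk' (N.subgroupOf (normalizer (N : Set Γ)))
          ⁅(⟨a, hNA ha⟩ : normalizer (N : Set Γ)), g⁆ = 1 := by
        rw [map_commutatorElement, commutatorElement_eq_one_iff_commute]
        exact hz'
      rw [QuotientGroup.mk'_apply, QuotientGroup.eq_one_iff, mem_subgroupOf] at h2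
      simpa [commutatorElement_def] using h2
    obtain ⟨n, hn, hc⟩ := exists_fixed_in_coset hNA (h.copA (hN.trans hK)) (Or.inl h.solvA) g.2 h1
    have : (g : Γ) * n ∈ K ⊓ centralizer (A : Set Γ) := ⟨hK (mul_mem hg (hN hn)), hc⟩
    rw [h.fpf, mem_bot] at this
    rw [mem_bot, QuotientGroup.mk'_apply, QuotientGroup.eq_one_iff, mem_subgroupOf,
      eq_inv_of_mul_eq_one_left this]
    exact inv_mem hn

end Quotient

end CfsgLib.Coprime.SquareFixed
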