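import Cfsg.Agent.Lib.Coprime.SquareFixed.Nilpotent

/-!
# Solvable invariant subgroups: the `p'`-core and the normalizer of a Sylow subgroup
-/

set_option autoImplicit false
set_option linter.style.haveILetI false
set_option linter.unusedSectionVars false

namespace CfsgLib.Coprime.SquareFixed

open Subgroup
open scoped commutatorElement

universe u

variable {Γ : Type u} [Group Γ]

/-- `O_{p'}(H)` inside the ambient group. -/
def core' (p : ℕ) (H : Subgroup Γ) : Subgroup Γ := (Cfsg.pPrimeCore p H).map H.subtype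

theorem core'_le {p : ℕ} {H : Subgroup Γ} : core' p H ≤ H := map_subtype_le _

variable [Finite Γ] {q p : ℕ} [Fact p.Prime] {A K H : Subgroup Γ}

theorem normalizer_le_normalizer_core' :
    normalizer (H : Set Γ) ≤ normalizer (core' p H : Set Γ) := by
  haveI := pPrimeCore_characteristic (G := H) p
  exact normalizer_le_normalizer_map H _

theorem core'_not_dvd : ¬ p ∣ Nat.card (core' p H) := by
  rw [core', card_map_of_injective H.subtype_injective]
  exact pPrimeCore_not_dvd Fact.out

theorem le_core' {N : Subgroup Γ} (hN : N ≤ H) (hHN : H ≤ normalizer (N : Set Γ))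
    (hd : ¬ p ∣ Nat.card N) : N ≤ core' p H := by
  haveI : (N.subgroupOf H).Normal := (normal_subgroupOf_iff_le_normalizer hN).2 hHN
  refine le_trans (map_subgroupOf_eq_of_le hN).ge (map_mono ?_)
  exact le_pPrimeCore_of_not_dvd Fact.out (by rwa [Nat.card_congr (subgroupOfEquivOfLe hN).toEquiv])

theorem isPGroup_le_of_normal_sylow {r : ℕ} [Fact r.Prime] {F S X : Subgroup Γ} (hS : IsSylowIn r S F)
    (hn : F ≤ normalizer (S : Set Γ)) (hX : X ≤ F) (hXr : IsPGroup r X) : X ≤ S := by
  have hsup : IsPGroup r ↥(X ⊔ S) := hXr.to_sup_of_normal_right' hS.isPGroup (hX.trans hn)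
  obtain ⟨i, hi⟩ := IsPGroup.iff_card.1 hsup
  have : S = X ⊔ S := eq_of_le_of_card_ge le_sup_right (by
    rw [hS.2, hi]
    exact Nat.pow_le_pow_right (Fact.out : r.Prime).pos
      (((Fact.out : r.Prime).pow_dvd_iff_le_factorization Nat.card_pos.ne').1
        (hi ▸ card_dvd_of_le (sup_le hX hS.1))))
  exact le_sup_left.trans this.ge

/-- The Sylow subgroups of a nilpotent normal subgroup of `H` are normal in `H`. -/
theorem normal_sylow_of_nilpotent {r : ℕ} [Fact r.Prime] {F S : Subgroup Γ}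
    (hF : Group.IsNilpotent F) (hS : IsSylowIn r S F) :
    normalizer (F : Set Γ) ≤ normalizer (S : Set Γ) := by
  haveI := hF
  haveI hn : (hS.toSylow : Subgroup F).Normal :=
    Sylow.normal_of_normalizerCondition Group.normalizerCondition_of_isNilpotent _
  haveI := hS.toSylow.characteristic_of_normal hn
  refine (normalizer_le_normalizer_map F (hS.toSylow : Subgroup F)).trans (le_of_eq ?_)
  rw [hS.map_toSylow]

namespace Hyp

variable (h : Hyp q A K) (hH : H ≤ K) (hA : A ≤ normalizer (H : Set Γ)) (hs : Group.IsSolvable H)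
  {T : Subgroup Γ} (hT : IsSylowIn p T H)
include h hH hA hs

theorem derived_pieces {X : Subgroup Γ} (hX : X ≤ ⁅H, H⁆) (hd : ¬ p ∣ Nat.card X) : X ≤ core' p H := by
  have hF := h.derived_nilpotent hH hA hs
  refine le_of_sylows fun r hr => ?_
  haveI := Fact.mk hr
  obtain ⟨S⟩ : Nonempty (Sylow r X) := inferInstance
  refine ⟨_, isSylowIn_map S, ?_⟩
  set S' := (S : Subgroup X).map X.subtype
  have hS'X : S' ≤ X := map_subtype_le _
  by_cases hrp : r = p
  · subst hrp
    have : S' = ⊥ := by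
      obtain ⟨i, hi⟩ := IsPGroup.iff_card.1 (isSylowIn_map S).isPGroup
      rcases i with _ | i
      · exact card_eq_one.1 (by rw [hi, pow_zero])
      · exact absurd (((dvd_pow_self r (Nat.succ_ne_zero i)).trans hi.symm.dvd).trans (card_dvd_of_le hS'X)) hd
    rw [this]; exact bot_le
  obtain ⟨R⟩ : Nonempty (Sylow r ↥(⁅H, H⁆ : Subgroup Γ)) := inferInstance
  have hR := isSylowIn_map R
  have hRn := normal_sylow_of_nilpotent hF hR
  refine (isPGroup_le_of_normal_sylow hR (le_normalizer.trans hRn) (hS'X.trans hX) (S.2.map _)).trans ?_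
  refine le_core' (hR.1.trans (commutator_le_self H))
    ((le_normalizer_commutator le_normalizer le_normalizer).trans hRn) ?_
  rw [hR.2]
  exact fun hd' => hrp ((Nat.prime_dvd_prime_iff_eq Fact.out hr).1 ((Fact.out : p.Prime).dvd_of_dvd_pow hd')).symm

include hT

theorem derived_le : ⁅H, H⁆ ≤ core' p H ⊔ T := by
  have hF := h.derived_nilpotent hH hA hs
  refine le_of_sylows fun r hr => ?_
  haveI := Fact.mk hr
  obtain ⟨R⟩ : Nonempty (Sylow r ↥(⁅H, H⁆ : Subgroup Γ)) := inferInstance
  have hR := isSylowIn_map R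
  refine ⟨_, hR, ?_⟩
  set R' := (R : Subgroup ↥(⁅H, H⁆ : Subgroup Γ)).map (⁅H, H⁆ : Subgroup Γ).subtype
  by_cases hrp : r = p
  · subst hrp
    have hRn : H ≤ normalizer (R' : Set Γ) := (le_normalizer_commutator le_normalizer le_normalizer).trans
      (normal_sylow_of_nilpotent hF hR)
    have hRH : R' ≤ H := hR.1.trans (commutator_le_self H)
    -- a normal `p`-subgroup lies in every Sylow subgroup
    have hsup : IsPGroup r ↥(T ⊔ R') := hT.isPGroup.to_sup_of_normal_right' hR.isPGroup (hT.1.trans hRn)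
    obtain ⟨i, hi⟩ := IsPGroup.iff_card.1 hsup
    have : T = T ⊔ R' := eq_of_le_of_card_ge le_sup_left (by
      rw [hT.2, hi]
      exact Nat.pow_le_pow_right hr.pos ((hr.pow_dvd_iff_le_factorization Nat.card_pos.ne').1
        (hi ▸ card_dvd_of_le (sup_le hT.1 hRH))))
    exact (le_sup_right.trans this.ge).trans le_sup_right
  · refine le_trans (derived_pieces h hH hA hs hR.1 ?_) le_sup_left
    rw [hR.2]
    exact fun hd' => hrp ((Nat.prime_dvd_prime_iff_eq Fact.out hr).1 ((Fact.out : p.Prime).dvd_of_dvd_pow hd')).symm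

theorem le_normalizer_core_sup : H ≤ normalizer ((core' p H ⊔ T : Subgroup Γ) : Set Γ) := by
  rw [le_normalizer_iff_commutator_le_left]
  exact le_trans (commutator_mono (sup_le core'_le hT.1) le_rfl) (derived_le h hH hA hs hT)

/-- `H = O_{p'}(H) N_H(T)`. -/
theorem factor : H ≤ core' p H ⊔ (H ⊓ normalizer (T : Set Γ)) := by
  intro g hg
  have hn := le_normalizer_core_sup h hH hA hs hT
  have hS : IsSylowIn p T (core' p H ⊔ T) := by
    refine ⟨le_sup_right, le_antisymm ?_ ?_⟩
    · obtain ⟨i, hi⟩ := IsPGroup.iff_card.1 hT.isPGroup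
      rw [hi]
      exact Nat.pow_le_pow_right (Fact.out : p.Prime).pos
        (((Fact.out : p.Prime).pow_dvd_iff_le_factorization Nat.card_pos.ne').1
          (hi ▸ card_dvd_of_le le_sup_right))
    · rw [hT.2]
      exact Nat.pow_le_pow_right (Fact.out : p.Prime).pos
        ((Nat.factorization_le_iff_dvd Nat.card_pos.ne' Nat.card_pos.ne').2
          (card_dvd_of_le (sup_le core'_le hT.1)) p)
  obtain ⟨k, hk, e⟩ := IsSylowIn.exists_conj (hS.conjBy (hn hg)) hS
  rw [conjBy_conjBy] at e
  have hkH : k ∈ H := (sup_le core'_le hT.1) hk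
  have hle : core' p H ⊔ T ≤ core' p H ⊔ (H ⊓ normalizer (T : Set Γ)) :=
    sup_le_sup_left (le_inf hT.1 le_normalizer) _
  have h2 : k * g ∈ H ⊓ normalizer (T : Set Γ) := ⟨mul_mem hkH hg, conjBy_eq_self_iff.1 e⟩
  rw [show g = k⁻¹ * (k * g) by group]
  exact mul_mem (hle (inv_mem hk)) ((le_sup_right : H ⊓ normalizer (T : Set Γ) ≤ _) h2)

/-- A `p'`-subgroup normalized by a self-centralizing subgroup of `T` lies in the core. -/
theorem le_core'_of_normalized {B Y : Subgroup Γ} (hB : B ≤ T)
    (hBc : T ⊓ centralizer (B : Set Γ) ≤ B) (hY : Y ≤ H) (hBY : B ≤ normalizer (Y : Set Γ))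
    (hYd : ¬ p ∣ Nat.card Y) : Y ≤ core' p H := by
  set O := core' p H
  have hHO : H ≤ normalizer (O : Set Γ) := le_normalizer.trans normalizer_le_normalizer_core'
  have hO : ¬ p ∣ Nat.card O := core'_not_dvd
  haveI : (O.subgroupOf (normalizer (O : Set Γ))).Normal :=
    (normal_subgroupOf_iff_le_normalizer le_normalizer).2 le_rfl
  set π := QuotientGroup.mk' (O.subgroupOf (normalizer (O : Set Γ)))
  have hTN : T ≤ normalizer (O : Set Γ) := hT.1.trans hHO
  have hBN : B ≤ normalizer (O : Set Γ) := hB.trans hTN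
  have hYN : Y ≤ normalizer (O : Set Γ) := hY.trans hHO
  have hcop : ∀ {X : Subgroup Γ}, ¬ p ∣ Nat.card X → (Nat.card X).Coprime p := fun hX =>
    (((Fact.out : p.Prime).coprime_iff_not_dvd).2 hX).symm
  have hYB : ⁅Y, B⁆ ≤ O := by
    refine derived_pieces h hH hA hs (commutator_mono hY (hB.trans hT.1)) fun hd => hYd ?_
    exact hd.trans (card_dvd_of_le (commutator_le_self_of_le_normalizer hBY))
  have hn := le_normalizer_core_sup h hH hA hs hT
  have hTT : qimg O T = qimg O (O ⊔ T) := by rw [sup_comm, qimg_sup_self hTN]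
  have hQ : qimg O Y ≤ centralizer (qimg O T : Set _) := by
    refine pq_lemma (P := qimg O B) (Q := qimg O Y) (U := qimg O T) (p := p)
      (((hT.isPGroup.to_le hB).comap_of_injective _ (normalizer (O : Set Γ)).subtype_injective).map π)
      ((hcop hYd).coprime_dvd_left (card_qimg hYN))
      ((hT.isPGroup.comap_of_injective _ (normalizer (O : Set Γ)).subtype_injective).map π) ?_
      (le_normalizer_qimg (hB.trans le_normalizer) hBN)
      (hTT ▸ le_normalizer_qimg (hY.trans hn) hYN) ?_
    · rintro _ ⟨b, hb, rfl⟩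
      refine mem_centralizer_iff.2 ?_
      rintro _ ⟨y, hy, rfl⟩
      rw [← commutatorElement_eq_one_iff_mul_comm, ← map_commutatorElement, QuotientGroup.mk'_apply,
        QuotientGroup.eq_one_iff, mem_subgroupOf]
      simpa [commutatorElement_def] using hYB (commutator_mem_commutator (show (y : Γ) ∈ Y from hy) (show (b : Γ) ∈ B from hb))
    · rintro _ ⟨⟨t, ht, rfl⟩, hc⟩
      have htB : (t : Γ) ∈ B := by
        refine hBc ⟨ht, mem_centralizer_iff.2 fun b hb => ?_⟩
        have hc' := mem_centralizer_iff.1 hc (π ⟨b, hBN hb⟩) (mem_map_of_mem _ hb)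
        rw [← commutatorElement_eq_one_iff_mul_comm, ← map_commutatorElement, QuotientGroup.mk'_apply,
          QuotientGroup.eq_one_iff, mem_subgroupOf] at hc'
        have hmem : b * t * b⁻¹ * (t : Γ)⁻¹ ∈ T ⊓ O := Subgroup.mem_inf.2 ⟨mul_mem (mul_mem (mul_mem
          (hB hb) (show (t : Γ) ∈ T from ht)) (inv_mem (hB hb))) (inv_mem (show (t : Γ) ∈ T from ht)),
          by simpa [commutatorElement_def] using hc'⟩
        have hbot : T ⊓ O = ⊥ := by
          obtain ⟨i, hi⟩ := IsPGroup.iff_card.1 hT.isPGroup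
          exact disjoint_iff.1 (disjoint_of_coprime_natCard (by rw [hi]; exact ((hcop hO).symm.pow_left i)))
        rw [hbot, mem_bot, ← commutatorElement_def, commutatorElement_eq_one_iff_mul_comm] at hmem
        exact hmem
      refine mem_centralizer_iff.2 ?_
      rintro _ ⟨y, hy, rfl⟩
      rw [← commutatorElement_eq_one_iff_mul_comm, ← map_commutatorElement, QuotientGroup.mk'_apply,
        QuotientGroup.eq_one_iff, mem_subgroupOf]
      simpa [commutatorElement_def] using hYB (commutator_mem_commutator (show (y : Γ) ∈ Y from hy) htB)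
  -- `Y O` is a normal `p'`-subgroup of `Y O T`, which is normal in `H`
  set Z := Y ⊔ O
  set M := Z ⊔ T
  have hMH : M ≤ H := sup_le (sup_le hY core'_le) hT.1
  have hder : ⁅H, H⁆ ≤ M := (derived_le h hH hA hs hT).trans (sup_le_sup_right le_sup_right _)
  have hHM : H ≤ normalizer (M : Set Γ) :=
    le_normalizer_iff_commutator_le_left.2 ((commutator_mono hMH le_rfl).trans hder)
  have hTZ : T ≤ normalizer (Z : Set Γ) := by
    intro t ht
    refine conjBy_eq_self_iff.1 (eq_of_le_of_card_ge ?_ (card_conjBy _ _).ge)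
    rw [conjBy, map_le_iff_le_comap, sup_le_iff]
    refine ⟨fun y hy => ?_, fun o ho => ?_⟩ <;> rw [mem_comap] <;> show t * _ * t⁻¹ ∈ Z
    · have h1 : π ⁅(⟨t, hTN ht⟩ : normalizer (O : Set Γ)), ⟨y, hYN hy⟩⁆ = 1 := by
        rw [map_commutatorElement, commutatorElement_eq_one_iff_mul_comm]
        exact mem_centralizer_iff.1 (hQ (mem_map_of_mem _ hy)) (π ⟨t, hTN ht⟩) (mem_map_of_mem _ ht)
      rw [QuotientGroup.mk'_apply, QuotientGroup.eq_one_iff, mem_subgroupOf] at h1
      rw [show t * y * t⁻¹ = (t * y * t⁻¹ * y⁻¹) * y by group]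
      exact mul_mem ((le_sup_right : O ≤ Z) (by simpa [commutatorElement_def] using h1))
        ((le_sup_left : Y ≤ Z) hy)
    · exact (le_sup_right : O ≤ Z) (conj_mem_of_le_normalizer hTN ht ho)
  have hZ : ¬ p ∣ Nat.card Z := fun hd => by
    rcases ((Fact.out : p.Prime).dvd_mul).1 (hd.trans (card_sup_dvd_of_le_normalizer hYN)) with h1 | h1
    · exact hYd h1
    · exact hO h1
  have hZM : Z ≤ core' p M := le_core' le_sup_left (sup_le le_normalizer hTZ) hZ
  exact (le_sup_left : Y ≤ Z).trans (hZM.trans (le_core' (core'_le.trans hMH)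
    (hHM.trans normalizer_le_normalizer_core') core'_not_dvd))

end Hyp

/-- An abelian-or-not `p`-group's derived group centralizes a normalized invariant `p'`-group. -/
theorem Hyp.derived_centralizes_prime (h : Hyp q A K) {T W : Subgroup Γ} (hT : T ≤ K) (hTp : IsPGroup p T)
    (hAT : A ≤ normalizer (T : Set Γ)) (hW : W ≤ K) (hAW : A ≤ normalizer (W : Set Γ))
    (hWd : ¬ p ∣ Nat.card W) (hTW : T ≤ normalizer (W : Set Γ))
    (hs : Group.IsSolvable ↥(W ⊔ T)) : ⁅T, T⁆ ≤ centralizer (W : Set Γ) := by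
  have hH : W ⊔ T ≤ K := sup_le hW hT
  have hA := sup_le_normalizer hAW hAT
  have hF := h.derived_nilpotent hH hA hs
  have hTd : (Nat.card ↥(⁅T, T⁆ : Subgroup Γ)).Coprime (Nat.card W) := by
    obtain ⟨i, hi⟩ := IsPGroup.iff_card.1 (hTp.to_le (commutator_le_self T))
    rw [hi]
    exact Nat.Coprime.pow_left _ ((Fact.out : p.Prime).coprime_iff_not_dvd.2 hWd)
  have hTW' : ⁅T, T⁆ ≤ normalizer (W : Set Γ) := (commutator_le_self T).trans hTW
  haveI := hF
  have hcent : ⁅T, T⁆ ≤ centralizer ((⁅W, ⁅T, T⁆⁆ : Subgroup Γ) : Set Γ) := by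
    intro t ht
    rw [mem_centralizer_iff]
    intro w hw
    have htF : t ∈ ⁅W ⊔ T, W ⊔ T⁆ := (commutator_mono le_sup_right le_sup_right) ht
    have hwF : w ∈ ⁅W ⊔ T, W ⊔ T⁆ :=
      (commutator_mono le_sup_left ((commutator_le_self T).trans le_sup_right)) hw
    have hwW : w ∈ W := commutator_le_self_of_le_normalizer hTW' hw
    have hcop : (orderOf (⟨t, htF⟩ : ↥(⁅W ⊔ T, W ⊔ T⁆ : Subgroup Γ))).Coprime
        (orderOf (⟨w, hwF⟩ : ↥(⁅W ⊔ T, W ⊔ T⁆ : Subgroup Γ))) := by
      rw [← Subgroup.orderOf_coe, ← Subgroup.orderOf_coe]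
      exact (hTd.coprime_dvd_left (orderOf_dvd_natCard _ ht)).coprime_dvd_right (orderOf_dvd_natCard _ hwW)
    exact (congrArg Subtype.val (CfsgLib.CFun.commute_of_coprime_order hcop).eq).symm
  exact le_centralizer_of_le_centralizer_commutator hTW' hTd
    (Or.inl (solvable_of_isPGroup (hTp.to_le (commutator_le_self T)))) hcent

end CfsgLib.Coprime.SquareFixed
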