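import Cfsg.Agent.Lib.Coprime.SquareFixed.Separation
import Cfsg.Agent.Lib.Coprime.Fitting

/-!
# The derived group of a solvable invariant subgroup is nilpotent
-/

set_option autoImplicit false
set_option linter.style.haveILetI false
set_option linter.unusedSectionVars false

namespace CfsgLib.Coprime.SquareFixed

open Subgroup
open scoped commutatorElement

universe u

variable {Γ : Type u} [Group Γ] [Finite Γ] {q : ℕ} {A K : Subgroup Γ}

/-- A subgroup containing a Sylow subgroup of `F` for every prime contains `F`. -/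
theorem le_of_sylows {F W : Subgroup Γ}
    (h : ∀ r : ℕ, r.Prime → ∃ S : Subgroup Γ, IsSylowIn r S F ∧ S ≤ W) : F ≤ W := by
  suffices hW : W.subgroupOf F = ⊤ from subgroupOf_eq_top.1 hW
  refine eq_top_of_card_eq _ (Nat.dvd_antisymm (card_subgroup_dvd_card _)
    ((Nat.dvd_iff_prime_pow_dvd_dvd _ _).2 fun r k hr hd => ?_))
  obtain ⟨S, hS, hSW⟩ := h r hr
  refine dvd_trans ?_ (card_dvd_of_le (comap_mono (f := F.subtype) hSW))
  rw [show Nat.card (S.comap F.subtype) = Nat.card S from
    Nat.card_congr (subgroupOfEquivOfLe hS.1).toEquiv, hS.2]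
  exact pow_dvd_pow r ((hr.pow_dvd_iff_le_factorization Nat.card_pos.ne').1 hd)

section Quotient

variable {N : Subgroup Γ} [(N.subgroupOf (normalizer (N : Set Γ))).Normal]

theorem qimg_commutator {X Y : Subgroup Γ} (hX : X ≤ normalizer (N : Set Γ))
    (hY : Y ≤ normalizer (N : Set Γ)) : ⁅qimg N X, qimg N Y⁆ = qimg N ⁅X, Y⁆ := by
  rw [qimg, qimg, qimg, ← map_commutator]
  congr 1
  apply map_injective (normalizer (N : Set Γ)).subtype_injective
  rw [map_commutator, map_subgroupOf_eq_of_le hX, map_subgroupOf_eq_of_le hY,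
    map_subgroupOf_eq_of_le ((commutator_le.2 fun x hx y hy => by
      rw [commutatorElement_def]
      exact mul_mem (mul_mem (mul_mem (hX hx) (hY hy)) (inv_mem (hX hx))) (inv_mem (hY hy))))]

theorem qimg_sup_self {X : Subgroup Γ} (hX : X ≤ normalizer (N : Set Γ)) :
    qimg N (X ⊔ N) = qimg N X := by
  rw [qimg, qimg, subgroupOf_sup hX le_normalizer, Subgroup.map_sup, sup_eq_left]
  rintro _ ⟨n, hn, rfl⟩
  rw [show QuotientGroup.mk' (N.subgroupOf (normalizer (N : Set Γ))) n = 1 from (QuotientGroup.eq_one_iff n).2 hn]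
  exact one_mem _

theorem isSolvable_qimg {X : Subgroup Γ} (hX : X ≤ normalizer (N : Set Γ)) (h : Group.IsSolvable X) :
    Group.IsSolvable (qimg N X) := by
  haveI := h
  haveI : Group.IsSolvable (X.subgroupOf (normalizer (N : Set Γ))) :=
    Group.isSolvable_of_surjective (f := (subgroupOfEquivOfLe hX).symm.toMonoidHom)
      (subgroupOfEquivOfLe hX).symm.surjective
  exact Group.isSolvable_of_surjective (MonoidHom.subgroupMap_surjective _ _)

/-- `H` normalizes the preimage of a Sylow subgroup of a nilpotent invariant section. -/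
theorem le_normalizer_sylow_sup {r : ℕ} [Fact r.Prime] {F H S : Subgroup Γ} (hFN : F ≤ normalizer (N : Set Γ))
    (hHN : H ≤ normalizer (N : Set Γ)) (hHF : H ≤ normalizer (F : Set Γ))
    (hnil : Group.IsNilpotent (qimg N F)) (hS : IsSylowIn r S F) :
    H ≤ normalizer ((S ⊔ N : Subgroup Γ) : Set Γ) := by
  set π := QuotientGroup.mk' (N.subgroupOf (normalizer (N : Set Γ)))
  have hSN : S ≤ normalizer (N : Set Γ) := hS.1.trans hFN
  have hF : F ≤ normalizer ((S ⊔ N : Subgroup Γ) : Set Γ) := by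
    refine le_of_sylows fun s hs => ?_
    haveI := Fact.mk hs
    by_cases hsr : s = r
    · subst hsr; exact ⟨S, hS, le_sup_left.trans le_normalizer⟩
    obtain ⟨S'⟩ : Nonempty (Sylow s F) := inferInstance
    refine ⟨_, isSylowIn_map S', ?_⟩
    set T := (S' : Subgroup F).map F.subtype
    have hTN : T ≤ normalizer (N : Set Γ) := (map_subtype_le _).trans hFN
    have hc := commute_of_sup_nilpotent hsr (A := qimg N T) (B := qimg N S) (L := qimg N F)
      (((S'.2.map _).comap_of_injective _ (normalizer (N : Set Γ)).subtype_injective).map π)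
      ((hS.isPGroup.comap_of_injective _ (normalizer (N : Set Γ)).subtype_injective).map π)
      (map_mono (comap_mono (map_subtype_le _))) (map_mono (comap_mono hS.1)) hnil
    intro t ht
    refine conjBy_eq_self_iff.1 (eq_of_le_of_card_ge ?_ (card_conjBy _ _).ge)
    rw [conjBy, map_le_iff_le_comap, sup_le_iff]
    refine ⟨fun x hx => ?_, fun x hx => ?_⟩ <;> rw [mem_comap] <;> show t * x * t⁻¹ ∈ S ⊔ N
    · have h1 : π ⁅(⟨t, hTN ht⟩ : normalizer (N : Set Γ)), ⟨x, hSN hx⟩⁆ = 1 := by
        rw [map_commutatorElement, commutatorElement_eq_one_iff_mul_comm]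
        exact (mem_centralizer_iff.1 (hc (mem_map_of_mem _ ht)) (π ⟨x, hSN hx⟩) (mem_map_of_mem _ hx)).symm
      rw [QuotientGroup.mk'_apply, QuotientGroup.eq_one_iff, mem_subgroupOf] at h1
      rw [show t * x * t⁻¹ = (t * x * t⁻¹ * x⁻¹) * x by group, sup_comm]
      exact mul_mem_sup (by simpa [commutatorElement_def] using h1) hx
    · exact (le_sup_right : N ≤ S ⊔ N) (conj_mem_of_le_normalizer hTN ht hx)
  intro g hg
  obtain ⟨k, hk, e⟩ := hS.exists_conj (hS.conjBy (hHF hg))
  have hg' : conjBy g (S ⊔ N) = conjBy k (S ⊔ N) := by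
    rw [conjBy, conjBy, Subgroup.map_sup, Subgroup.map_sup]
    change conjBy g S ⊔ conjBy g N = conjBy k S ⊔ conjBy k N
    rw [e, conjBy_eq_self_iff.2 (hHN hg), conjBy_eq_self_iff.2 (hFN hk)]
  exact conjBy_eq_self_iff.1 (hg'.trans (conjBy_eq_self_iff.2 (hF hk)))

/-- Elements commuting modulo `N` with generators commute with the whole. -/
theorem commutator_le_mod {X Y : Subgroup Γ} (hX : X ≤ normalizer (N : Set Γ))
    (hY : Y ≤ normalizer (N : Set Γ))
    (hgen : ∀ r : ℕ, r.Prime → ∃ S : Subgroup Γ, IsSylowIn r S X ∧ ∀ s ∈ S, ∀ y ∈ Y, ⁅s, y⁆ ∈ N) :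
    ⁅X, Y⁆ ≤ N := by
  set π := QuotientGroup.mk' (N.subgroupOf (normalizer (N : Set Γ)))
  have hle : X ≤ ((centralizer (qimg N Y : Set _)).comap π).map (normalizer (N : Set Γ)).subtype := by
    refine le_of_sylows fun r hr => ?_
    obtain ⟨S, hS, hSY⟩ := hgen r hr
    refine ⟨S, hS, fun s hs => ⟨⟨s, hX (hS.1 hs)⟩, mem_centralizer_iff.2 ?_, rfl⟩⟩
    rintro _ ⟨y, hy, rfl⟩
    rw [eq_comm, ← commutatorElement_eq_one_iff_mul_comm, ← map_commutatorElement, QuotientGroup.mk'_apply,
      QuotientGroup.eq_one_iff, mem_subgroupOf]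
    simpa [commutatorElement_def] using hSY s hs y hy
  refine commutator_le.2 fun x hx y hy => ?_
  obtain ⟨w, hw, e⟩ := hle hx
  have := mem_centralizer_iff.1 hw (π ⟨y, hY hy⟩) (mem_map_of_mem _ hy)
  rw [eq_comm, ← commutatorElement_eq_one_iff_mul_comm, ← map_commutatorElement, QuotientGroup.mk'_apply,
    QuotientGroup.eq_one_iff, mem_subgroupOf] at this
  obtain rfl : (w : Γ) = x := e
  simpa [commutatorElement_def] using this

end Quotient

theorem exists_minimal_abelian {A H : Subgroup Γ} (hAH : A ≤ normalizer (H : Set Γ))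
    (hH : Group.IsSolvable H) (hH1 : H ≠ ⊥) :
    ∃ (p : ℕ) (V : Subgroup Γ), p.Prime ∧ V ≤ H ∧ V ≠ ⊥ ∧ IsPGroup p V ∧ IsMulCommutative V ∧
      A ≤ normalizer (V : Set Γ) ∧ H ≤ normalizer (V : Set Γ) ∧
      ∀ V' : Subgroup Γ, V' ≤ V → A ≤ normalizer (V' : Set Γ) → H ≤ normalizer (V' : Set Γ) →
        V' ≠ ⊥ → V' = V := by
  haveI := hH
  obtain ⟨k, hk1, hk2⟩ : ∃ k, derivedSeries H k ≠ ⊥ ∧ derivedSeries H (k + 1) = ⊥ := by
    obtain ⟨n, hn⟩ := hH.solvable
    induction n with
    | zero =>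
      rw [derivedSeries_zero] at hn
      exact absurd (by rw [← Subgroup.range_subtype H, MonoidHom.range_eq_map, hn, Subgroup.map_bot]) hH1
    | succ m ih =>
      by_cases h : derivedSeries H m = ⊥
      · exact ih h
      · exact ⟨m, h, hn⟩
  haveI := derivedSeries_characteristic (↥H) k
  set S := {V : Subgroup Γ | V ≤ H ∧ V ≠ ⊥ ∧ IsMulCommutative V ∧ A ≤ normalizer (V : Set Γ) ∧
    H ≤ normalizer (V : Set Γ)}
  have hne : (derivedSeries H k).map H.subtype ∈ S := by
    refine ⟨map_subtype_le _, fun e => hk1 ((map_eq_bot_iff_of_injective _ H.subtype_injective).1 e),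
      ⟨⟨?_⟩⟩, hAH.trans (normalizer_le_normalizer_map H _),
      le_normalizer.trans (normalizer_le_normalizer_map H _)⟩
    rintro ⟨_, a, ha, rfl⟩ ⟨_, b, hb, rfl⟩
    have := commutator_mem_commutator ha hb
    rw [← derivedSeries_succ, hk2, mem_bot, commutatorElement_eq_one_iff_mul_comm] at this
    exact Subtype.ext (congrArg H.subtype this)
  obtain ⟨V, -, hV⟩ := exists_minimal_le_of_wellFoundedLT (fun V => V ∈ S) _ hne
  obtain ⟨hVH, hV1, hVc, hVA, hVN⟩ := hV.prop
  have hmin : ∀ V' : Subgroup Γ, V' ≤ V → A ≤ normalizer (V' : Set Γ) → H ≤ normalizer (V' : Set Γ) →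
      V' ≠ ⊥ → V' = V := fun V' h1 h2 h3 h4 => (hV.eq_of_le (show V' ∈ S from
    ⟨h1.trans hVH, h4, ⟨⟨fun a b => Subtype.ext (congrArg (fun t : V => (t : Γ))
      (hVc.is_comm.comm ⟨a, h1 a.2⟩ ⟨b, h1 b.2⟩))⟩⟩, h2, h3⟩) h1)
  obtain ⟨p, hp, hpd⟩ := Nat.exists_prime_and_dvd (fun e => hV1 (card_eq_one.1 e) : Nat.card V ≠ 1)
  haveI := Fact.mk hp
  let E : Subgroup Γ :=
    { carrier := {x | x ∈ V ∧ x ^ p = 1}
      one_mem' := ⟨V.one_mem, one_pow p⟩
      mul_mem' := fun {a b} ha hb => ⟨V.mul_mem ha.1 hb.1, by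
        rw [(show Commute a b from congrArg Subtype.val (hVc.is_comm.comm ⟨a, ha.1⟩ ⟨b, hb.1⟩)).mul_pow,
          ha.2, hb.2, one_mul]⟩
      inv_mem' := fun {a} ha => ⟨V.inv_mem ha.1, by rw [inv_pow, ha.2, inv_one]⟩ }
  have hEn : ∀ X : Subgroup Γ, X ≤ normalizer (V : Set Γ) → X ≤ normalizer (E : Set Γ) := by
    intro X hX x hx
    rw [← conjBy_eq_self_iff]
    refine eq_of_le_of_card_ge ?_ (card_conjBy _ _).ge
    rintro _ ⟨e, he, rfl⟩
    exact ⟨conj_mem_of_le_normalizer hX hx he.1, by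
      show (x * e * x⁻¹) ^ p = 1
      rw [conj_pow, he.2, mul_one, mul_inv_cancel]⟩
  have hE1 : E ≠ ⊥ := by
    obtain ⟨x, hx⟩ := exists_prime_orderOf_dvd_card' (G := V) p hpd
    intro e
    have : (x : Γ) ∈ E := ⟨x.2, by rw [← hx, ← Subgroup.orderOf_coe, pow_orderOf_eq_one]⟩
    rw [e, mem_bot] at this
    rw [← Subgroup.orderOf_coe, this, orderOf_one] at hx
    exact hp.ne_one hx.symm
  refine ⟨p, V, hp, hVH, hV1, fun x => ⟨1, ?_⟩, hVc, hVA, hVN, hmin⟩
  have hxE : (x : Γ) ∈ E := (hmin E (fun _ h => h.1) (hEn A hVA) (hEn H hVN) hE1).ge x.2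
  exact Subtype.ext (by rw [pow_one]; exact hxE.2)

theorem derived_nilpotent_aux : ∀ (n : ℕ) {Γ : Type u} [Group Γ] [Finite Γ] {q : ℕ} {A H : Subgroup Γ},
    Hyp q A H → Group.IsSolvable H → Nat.card H = n →
    Group.IsNilpotent ↥(⁅H, H⁆ : Subgroup Γ) := by
  intro n
  induction n using Nat.strong_induction_on with
  | _ n ih =>
  intro Γ _ _ q A H h hs hn
  by_cases hH1 : H = ⊥
  · haveI : Subsingleton ↥(⁅H, H⁆ : Subgroup Γ) :=
      ⟨fun a b => Subtype.ext ((mem_bot.1 (hH1 ▸ commutator_le_self H a.2)).trans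
        (mem_bot.1 (hH1 ▸ commutator_le_self H b.2)).symm)⟩
    exact Group.isNilpotent_of_subsingleton
  obtain ⟨p, V, hp, hVH, hV1, hVp, hVc, hVA, hVN, hmin⟩ := exists_minimal_abelian h.norm hs hH1
  haveI := Fact.mk hp
  set C := H ⊓ centralizer (V : Set Γ) with hC
  have hAC : A ≤ normalizer (C : Set Γ) :=
    inf_le_normalizer h.norm (hVA.trans (normalizer_le_normalizer_centralizer _))
  have hHC : H ≤ normalizer (C : Set Γ) :=
    inf_le_normalizer le_normalizer (hVN.trans (normalizer_le_normalizer_centralizer _))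
  have hVC : V ≤ C := le_inf hVH fun v hv => mem_centralizer_iff.2 fun w hw =>
    congrArg Subtype.val (hVc.is_comm.comm ⟨w, hw⟩ ⟨v, hv⟩)
  have hC1 : C ≠ ⊥ := fun e => hV1 (le_bot_iff.1 (hVC.trans e.le))
  haveI : (C.subgroupOf (normalizer (C : Set Γ))).Normal :=
    (normal_subgroupOf_iff_le_normalizer le_normalizer).2 le_rfl
  have hnilF : Group.IsNilpotent (qimg C ⁅H, H⁆) := by
    have hC' := ih _ (hn ▸ card_qimg_lt hC1 inf_le_left hHC) (h.quot inf_le_left le_rfl h.norm hAC hHC)
      (isSolvable_qimg hHC hs) rfl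
    rwa [qimg_commutator hHC hHC] at hC'
  set F := ⁅H, H⁆ ⊔ C
  have hFH : F ≤ H := sup_le (commutator_le_self H) inf_le_left
  have hAF : A ≤ normalizer (F : Set Γ) := sup_le_normalizer (le_normalizer_commutator h.norm h.norm) hAC
  have hHF : H ≤ normalizer (F : Set Γ) :=
    sup_le_normalizer (le_normalizer_commutator le_normalizer le_normalizer) hHC
  have hnil' : Group.IsNilpotent (qimg C F) := by
    rwa [qimg_sup_self ((commutator_le_self H).trans hHC)]
  -- a normalized `p`-group centralizes `V`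
  have hpC : ∀ S : Subgroup Γ, S ≤ H → IsPGroup p S → A ≤ normalizer (S : Set Γ) →
      H ≤ normalizer ((S ⊔ C : Subgroup Γ) : Set Γ) → S ≤ C := by
    intro S hSH hSp hAS hHS
    have hVS : V ⊓ centralizer (S : Set Γ) = V ⊓ centralizer ((S ⊔ C : Subgroup Γ) : Set Γ) := by
      refine le_antisymm (le_inf inf_le_left ?_) (inf_le_inf_left _ (centralizer_le (le_sup_left : S ≤ S ⊔ C)))
      rw [le_centralizer_iff, sup_le_iff]
      exact ⟨le_centralizer_iff.1 inf_le_right, inf_le_right.trans (centralizer_le inf_le_left)⟩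
    have hne : V ⊓ centralizer (S : Set Γ) ≠ ⊥ := by
      classical
      letI act : MulAction S V :=
        { smul := fun s v => ⟨(s : Γ) * v * (s : Γ)⁻¹, conj_mem_of_le_normalizer hVN (hSH s.2) v.2⟩
          one_smul := fun v => Subtype.ext (by show ((1 : S) : Γ) * v * ((1 : S) : Γ)⁻¹ = v; simp)
          mul_smul := fun s t v => Subtype.ext (by
            show ((s * t : S) : Γ) * v * ((s * t : S) : Γ)⁻¹ = (s : Γ) * ((t : Γ) * v * (t : Γ)⁻¹) * (s : Γ)⁻¹
            simp [mul_assoc]) }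
      obtain ⟨k, hk⟩ := IsPGroup.iff_card.1 hVp
      have hk0 : k ≠ 0 := fun e => hV1 (card_eq_one.1 (by rw [hk, e, pow_zero]))
      have h1 : (1 : V) ∈ MulAction.fixedPoints S V := fun s => Subtype.ext (by
        show (s : Γ) * ((1 : V) : Γ) * (s : Γ)⁻¹ = 1; simp)
      obtain ⟨v, hv, hv1⟩ := hSp.exists_fixed_point_of_prime_dvd_card_of_fixed_point V
        (hk ▸ dvd_pow_self p hk0) h1
      intro e
      apply hv1
      have : (v : Γ) ∈ V ⊓ centralizer (S : Set Γ) := ⟨v.2, mem_centralizer_iff_conj_eq.2 fun s hs =>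
        congrArg Subtype.val (hv ⟨s, hs⟩)⟩
      rw [e, mem_bot] at this
      exact (Subtype.ext this).symm
    have heq := hmin (V ⊓ centralizer (S : Set Γ)) inf_le_left
      (inf_le_normalizer hVA (hAS.trans (normalizer_le_normalizer_centralizer _)))
      (hVS ▸ inf_le_normalizer hVN (hHS.trans (normalizer_le_normalizer_centralizer _))) hne
    exact le_inf hSH (le_centralizer_iff.1 (inf_eq_left.1 heq))
  -- the derived group is central modulo `C`
  have hcentral : ⁅F, H⁆ ≤ C := by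
    refine commutator_le_mod (hFH.trans hHC) hHC fun r hr => ?_
    haveI := Fact.mk hr
    obtain ⟨S, hS, hAS⟩ := exists_invariant_sylow hAF (h.copA hFH) (Or.inl h.solvA) r
    refine ⟨S, hS, ?_⟩
    have hHS := le_normalizer_sylow_sup (hFH.trans hHC) hHC hHF hnil' hS
    have hSH := hS.1.trans hFH
    by_cases hrp : r = p
    · subst hrp
      intro s hs y hy
      exact commutator_mem_of_le_normalizer hHC ((hpC S hSH hS.isPGroup hAS hHS) hs) hy
    have hder := h.derived_centralizes hrp hSH hS.isPGroup hAS hVH hVp hVc hVA (hSH.trans hVN)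
    set Z := H ⊓ normalizer (S : Set Γ)
    have hkey := h.commutator_normalizing_centralizes hrp hSH hS.isPGroup hAS hVH hVp hVA (hSH.trans hVN)
      hder (Z := Z) inf_le_left (inf_le_normalizer h.norm (hAS.trans le_normalizer)) inf_le_right
    intro s hs y hy
    have hy' : y ∈ C ⊔ Z := by
      have hSF : S ⊔ C ≤ F := sup_le hS.1 le_sup_right
      have hS1 : IsSylowIn r S (S ⊔ C) := by
        refine ⟨le_sup_left, ?_⟩
        refine le_antisymm ?_ (by
          rw [hS.2]
          exact Nat.pow_le_pow_right hr.pos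
            ((Nat.factorization_le_iff_dvd Nat.card_pos.ne' Nat.card_pos.ne').2 (card_dvd_of_le hSF) r))
        obtain ⟨i, hi⟩ := IsPGroup.iff_card.1 hS.isPGroup
        rw [hi]
        exact Nat.pow_le_pow_right hr.pos ((hr.pow_dvd_iff_le_factorization Nat.card_pos.ne').1
          (hi ▸ card_dvd_of_le le_sup_left))
      obtain ⟨k, hk, e⟩ := IsSylowIn.exists_conj (hS1.conjBy (hHS hy)) hS1
      rw [conjBy_conjBy] at e
      have hkH : k ∈ H := (sup_le hSH inf_le_left) hk
      have hky : k * y ∈ Z := ⟨mul_mem hkH hy, conjBy_eq_self_iff.1 e⟩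
      have hSZ : S ⊔ C ≤ C ⊔ Z := sup_le ((le_inf hSH le_normalizer).trans le_sup_right) le_sup_left
      rw [show y = k⁻¹ * (k * y) by group]
      exact mul_mem (hSZ (inv_mem hk)) ((le_sup_right : Z ≤ C ⊔ Z) hky)
    obtain ⟨c, hc, z, hz, rfl⟩ := mem_sup_exists (inf_le_left.trans hHC) hy'
    rw [show ⁅s, c * z⁆ = ⁅s, c⁆ * (c * ⁅s, z⁆ * c⁻¹) by simp only [commutatorElement_def]; group]
    have h2 : ⁅s, z⁆ ∈ C := ⟨commutator_mem_of_le_normalizer le_normalizer (hSH hs) hz.1,
      hkey (commutator_mem_commutator hs hz)⟩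
    refine mul_mem ?_ (conj_mem_of_le_normalizer le_normalizer hc h2)
    rw [commutatorElement_def]
    exact mul_mem (conj_mem_of_le_normalizer hHC (hSH hs) hc) (inv_mem hc)
  -- so the quotient is nilpotent, and then abelian
  have hnilH : Group.IsNilpotent (qimg C H) := by
    have h1 : ⁅⁅qimg C H, qimg C H⁆, qimg C H⁆ = ⊥ := by
      rw [qimg_commutator hHC hHC, qimg_commutator ((commutator_le_self H).trans hHC) hHC, eq_bot_iff]
      rintro _ ⟨g, hg, rfl⟩
      rw [mem_bot, QuotientGroup.mk'_apply, QuotientGroup.eq_one_iff, mem_subgroupOf]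
      exact hcentral ((commutator_mono le_sup_left le_rfl) hg)
    refine (Subgroup.isNilpotent_iff_lowerCentralSeries _).2 ⟨2, ?_⟩
    rw [Subgroup.lowerCentralSeries_succ, Subgroup.lowerCentralSeries_succ, Subgroup.lowerCentralSeries_zero]
    exact h1
  have hder : ⁅H, H⁆ ≤ C := by
    refine commutator_le_mod hHC hHC fun r hr => ?_
    haveI := Fact.mk hr
    obtain ⟨S, hS, hAS⟩ := exists_invariant_sylow h.norm (h.copA le_rfl) (Or.inl h.solvA) r
    have hHS := le_normalizer_sylow_sup hHC hHC le_normalizer hnilH hS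
    refine ⟨S, hS, fun s hs => ?_⟩
    by_cases hrp : r = p
    · subst hrp
      exact fun y hy => commutator_mem_of_le_normalizer hHC ((hpC S hS.1 hS.isPGroup hAS hHS) hs) hy
    set π := QuotientGroup.mk' (C.subgroupOf (normalizer (C : Set Γ)))
    have hder := h.derived_centralizes hrp hS.1 hS.isPGroup hAS hVH hVp hVc hVA (hS.1.trans hVN)
    have hle : H ≤ ((centralizer {π ⟨s, hHC (hS.1 hs)⟩}).comap π).map (normalizer (C : Set Γ)).subtype := by
      refine le_of_sylows fun t ht => ?_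
      haveI := Fact.mk ht
      by_cases htr : t = r
      · subst htr
        refine ⟨S, hS, fun u hu => ⟨⟨u, hHC (hS.1 hu)⟩, mem_centralizer_singleton_iff.2 ?_, rfl⟩⟩
        rw [← commutatorElement_eq_one_iff_mul_comm, ← map_commutatorElement, QuotientGroup.mk'_apply,
          QuotientGroup.eq_one_iff, mem_subgroupOf]
        refine ⟨?_, ?_⟩
        · simpa [commutatorElement_def] using commutator_mem_of_le_normalizer le_normalizer (hS.1 hu) (hS.1 hs)
        · simpa [commutatorElement_def] using hder (commutator_mem_commutator hu hs)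
      obtain ⟨T⟩ : Nonempty (Sylow t H) := inferInstance
      refine ⟨_, isSylowIn_map T, fun u hu => ⟨⟨u, hHC (map_subtype_le _ hu)⟩,
        mem_centralizer_singleton_iff.2 ?_, rfl⟩⟩
      have hc := commute_of_sup_nilpotent htr (A := qimg C ((T : Subgroup H).map H.subtype)) (B := qimg C S)
        (L := qimg C H) (((T.2.map _).comap_of_injective _ (normalizer (C : Set Γ)).subtype_injective).map π)
        ((hS.isPGroup.comap_of_injective _ (normalizer (C : Set Γ)).subtype_injective).map π)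
        (map_mono (comap_mono (map_subtype_le _))) (map_mono (comap_mono hS.1)) hnilH
      exact (mem_centralizer_iff.1 (hc (mem_map_of_mem _ hu)) (π ⟨s, hHC (hS.1 hs)⟩) (mem_map_of_mem _ hs)).symm
    intro y hy
    obtain ⟨w, hw, e⟩ := hle hy
    obtain rfl : (w : Γ) = y := e
    have := (mem_centralizer_singleton_iff.1 hw).symm
    rw [← commutatorElement_eq_one_iff_mul_comm, ← map_commutatorElement, QuotientGroup.mk'_apply,
      QuotientGroup.eq_one_iff, mem_subgroupOf] at this
    simpa [commutatorElement_def, -Subgroup.mem_inf] using this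
  -- lift from the quotient by `V`
  haveI : (V.subgroupOf (normalizer (V : Set Γ))).Normal :=
    (normal_subgroupOf_iff_le_normalizer le_normalizer).2 le_rfl
  have hV' := ih _ (hn ▸ card_qimg_lt hV1 hVH hVN) (h.quot hVH le_rfl h.norm hVA hVN)
    (isSolvable_qimg hVN hs) rfl
  rw [qimg_commutator hVN hVN] at hV'
  haveI := hV'
  have hDN : ⁅H, H⁆ ≤ normalizer (V : Set Γ) := (commutator_le_self H).trans hVN
  let f : ↥(⁅H, H⁆ : Subgroup Γ) →* qimg V ⁅H, H⁆ :=
    ((QuotientGroup.mk' (V.subgroupOf (normalizer (V : Set Γ)))).comp (inclusion hDN)).codRestrict _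
      fun x => mem_map_of_mem _ (show inclusion hDN x ∈ (⁅H, H⁆ : Subgroup Γ).subgroupOf _ from x.2)
  refine Subgroup.isNilpotent_of_ker_le_center f fun x hx => ?_
  rw [MonoidHom.mem_ker] at hx
  have hxV : (x : Γ) ∈ V := mem_subgroupOf.1 ((QuotientGroup.eq_one_iff (inclusion hDN x)).1 (congrArg Subtype.val hx))
  exact mem_center_iff.2 fun y => Subtype.ext
    (mem_centralizer_iff.1 (hder y.2).2 x hxV).symm

theorem Hyp.derived_nilpotent (h : Hyp q A K) {H : Subgroup Γ} (hH : H ≤ K)
    (hA : A ≤ normalizer (H : Set Γ)) (hs : Group.IsSolvable H) :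
    Group.IsNilpotent ↥(⁅H, H⁆ : Subgroup Γ) :=
  derived_nilpotent_aux _ (h.mono hH hA) hs rfl

end CfsgLib.Coprime.SquareFixed
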