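import Cfsg.Agent.Lib.Coprime.SquareFixed.Basic
import Cfsg.Agent.Lib.Coprime.PGroupFrattini

/-!
# Separation of lines in coprime abelian actions inside the fixed-point-free situation
-/

set_option autoImplicit false
set_option linter.style.haveILetI false
set_option linter.unusedSectionVars false

namespace CfsgLib.Coprime.SquareFixed

open Subgroup
open scoped commutatorElement

universe u

variable {Γ : Type u} [Group Γ] [Finite Γ] {q : ℕ} {A K : Subgroup Γ}

theorem coprime_of_isPGroup {p r : ℕ} [Fact p.Prime] [Fact r.Prime] (hne : p ≠ r) {X W : Subgroup Γ}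
    (hX : IsPGroup p X) (hW : IsPGroup r W) : (Nat.card X).Coprime (Nat.card W) := by
  obtain ⟨i, hi⟩ := IsPGroup.iff_card.1 hX
  obtain ⟨j, hj⟩ := IsPGroup.iff_card.1 hW
  rw [hi, hj]
  exact Nat.Coprime.pow _ _ ((Nat.coprime_primes Fact.out Fact.out).2 hne)

theorem solvable_of_isPGroup {p : ℕ} [Fact p.Prime] {W : Subgroup Γ} (hW : IsPGroup p W) :
    Group.IsSolvable W := isSolvable_of_isNilpotent hW.isNilpotent

/-- The commutator with `R` of a nontrivial invariant subgroup of a `p`-group `R` is smaller. -/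
theorem commutator_lt_self {p : ℕ} [Fact p.Prime] {R H : Subgroup Γ} (hR : IsPGroup p R) (hHR : H ≤ R)
    (hRH : R ≤ normalizer (H : Set Γ)) (hH : H ≠ ⊥) : ⁅H, R⁆ < H := by
  refine lt_of_le_of_ne (le_normalizer_iff_commutator_le_left.1 hRH) fun h => hH ?_
  have hle : ∀ n, H ≤ R.lowerCentralSeries n := by
    intro n
    induction n with
    | zero => rw [Subgroup.lowerCentralSeries_zero]; exact hHR
    | succ n ih =>
      rw [Subgroup.lowerCentralSeries_succ, ← h]
      exact commutator_mono ih le_rfl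
  obtain ⟨n, hn⟩ := (Subgroup.isNilpotent_iff_lowerCentralSeries R).1 hR.isNilpotent
  exact le_bot_iff.1 ((hle n).trans hn.le)

/-- `⁅W, Y⁆` is normalized by operators on `W` commuting with `Y` modulo the centralizer of `W`. -/
theorem le_normalizer_commutator_mod {W X Y : Subgroup Γ} (hXW : X ≤ normalizer (W : Set Γ))
    (hYW : Y ≤ normalizer (W : Set Γ)) (hmod : ∀ x ∈ X, ∀ y ∈ Y, ⁅x, y⁆ ∈ centralizer (W : Set Γ)) :
    X ≤ normalizer ((⁅W, Y⁆ : Subgroup Γ) : Set Γ) := by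
  intro x hx
  rw [← conjBy_eq_self_iff]
  refine eq_of_le_of_card_ge ?_ (card_conjBy _ _).ge
  rw [conjBy, map_le_iff_le_comap, commutator_le]
  intro w hw y hy
  rw [mem_comap]
  show x * ⁅w, y⁆ * x⁻¹ ∈ ⁅W, Y⁆
  set w' := x * w * x⁻¹ with hw'
  have hw'W : w' ∈ W := conj_mem_of_le_normalizer hXW hx hw
  have hc : ⁅w', y⁆ ∈ W := commutator_mem_of_le_normalizer hYW hw'W hy
  have hz := mem_centralizer_iff.1 (hmod x hx y hy)
  have e : x * ⁅w, y⁆ * x⁻¹ = ⁅w', ⁅x, y⁆ * y⁆ := by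
    simp only [hw', commutatorElement_def]; group
  rw [e, commutatorElement_def]
  have e2 : w' * (⁅x, y⁆ * y) * w'⁻¹ * (⁅x, y⁆ * y)⁻¹ = ⁅x, y⁆ * ⁅w', y⁆ * ⁅x, y⁆⁻¹ := by
    rw [← mul_assoc w', hz w' hw'W]
    simp only [commutatorElement_def]; group
  rw [e2, ← hz _ hc, mul_inv_cancel_right]
  exact commutator_mem_commutator hw'W hy

/-- In an abelian section `[D, Y] = D` the fixed points of `Y` are trivial. -/
theorem mem_of_fixed_of_commutator_eq {D Y N : Subgroup Γ} (hN : N ≤ D)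
    (hDN : D ≤ normalizer (N : Set Γ)) (hYN : Y ≤ normalizer (N : Set Γ))
    (hYD : Y ≤ normalizer (D : Set Γ)) (hab : ⁅D, D⁆ ≤ N) (hco : (Nat.card Y).Coprime (Nat.card D))
    (hD : ⁅D, Y⁆ = D) {c : Γ} (hc : c ∈ D) (hcY : ∀ y ∈ Y, y * c = c * y) : c ∈ N := by
  haveI : (N.subgroupOf (normalizer (N : Set Γ))).Normal :=
    (normal_subgroupOf_iff_le_normalizer le_normalizer).2 le_rfl
  set π := QuotientGroup.mk' (N.subgroupOf (normalizer (N : Set Γ)))
  have hV : IsMulCommutative (qimg N D) := by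
    refine ⟨⟨?_⟩⟩
    rintro ⟨_, a, ha, rfl⟩ ⟨_, b, hb, rfl⟩
    apply Subtype.ext
    show π a * π b = π b * π a
    rw [← commutatorElement_eq_one_iff_mul_comm, ← map_commutatorElement, QuotientGroup.mk'_apply,
      QuotientGroup.eq_one_iff, mem_subgroupOf]
    exact hab (commutator_mem_commutator (show (a : Γ) ∈ D from ha) (show (b : Γ) ∈ D from hb))
  have hcomm : qimg N D = ⁅qimg N D, qimg N Y⁆ := by
    rw [qimg, qimg, ← map_commutator]
    congr 1
    apply map_injective (normalizer (N : Set Γ)).subtype_injective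
    rw [map_commutator, map_subgroupOf_eq_of_le hDN, map_subgroupOf_eq_of_le hYN, hD]
  have hmem : π ⟨c, hDN hc⟩ ∈ (qimg N D ⊓ centralizer (qimg N Y : Set _)) ⊓ ⁅qimg N D, qimg N Y⁆ := by
    refine ⟨⟨mem_map_of_mem _ hc, mem_centralizer_iff.2 ?_⟩, hcomm ▸ mem_map_of_mem _ hc⟩
    rintro _ ⟨y, hy, rfl⟩
    rw [← map_mul, ← map_mul]
    exact congrArg π (Subtype.ext (hcY y hy))
  rw [centralizer_inf_commutator_eq_bot hV (le_normalizer_qimg hYD hYN)
    ((hco.coprime_dvd_left (card_qimg hYN)).coprime_dvd_right (card_qimg hDN)), mem_bot,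
    QuotientGroup.mk'_apply, QuotientGroup.eq_one_iff] at hmem
  exact hmem

theorem commutator_le_of_le_sup {R N X : Subgroup Γ} (hR : R ≤ N ⊔ X) (hXN : X ≤ normalizer (N : Set Γ))
    (hX : ∀ x ∈ X, ∀ y ∈ X, x * y = y * x) : ⁅R, R⁆ ≤ N := by
  haveI : (N.subgroupOf (normalizer (N : Set Γ))).Normal :=
    (normal_subgroupOf_iff_le_normalizer le_normalizer).2 le_rfl
  refine commutator_le.2 fun r hr s hs => ?_
  obtain ⟨n, hn, x, hx, rfl⟩ := mem_sup_exists hXN (hR hr)
  obtain ⟨m, hm, y, hy, rfl⟩ := mem_sup_exists hXN (hR hs)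
  set π := QuotientGroup.mk' (N.subgroupOf (normalizer (N : Set Γ)))
  have h1 : ∀ (k : Γ) (hk : k ∈ N) (z : normalizer (N : Set Γ)),
      π (⟨k, le_normalizer hk⟩ * z) = π z := fun k hk z => by
    rw [map_mul, show π ⟨k, le_normalizer hk⟩ = 1 from (QuotientGroup.eq_one_iff _).2 hk, one_mul]
  have h2 : π ⁅(⟨n, le_normalizer hn⟩ * ⟨x, hXN hx⟩ : normalizer (N : Set Γ)),
      ⟨m, le_normalizer hm⟩ * ⟨y, hXN hy⟩⁆ = 1 := by
    rw [map_commutatorElement, h1 n hn, h1 m hm, ← map_commutatorElement,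
      commutatorElement_eq_one_iff_mul_comm.2 (Subtype.ext (hX x hx y hy)), map_one]
  rw [QuotientGroup.mk'_apply, QuotientGroup.eq_one_iff, mem_subgroupOf] at h2
  simpa [commutatorElement_def] using h2

namespace Fix

variable (h : Fix q A K)
include h

theorem not_mem_symm {a b : Γ} (ha : a ∈ A) (hb : b ∈ A) (ha1 : a ≠ 1) (hab : b ∉ zpowers a) :
    b ≠ 1 ∧ a ∉ zpowers b := by
  have hb1 : b ≠ 1 := fun e => hab (e ▸ one_mem _)
  exact ⟨hb1, fun hm => hab ((h.zpowers_eq_of_mem hb hb1 hm ha1).ge (mem_zpowers b))⟩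

theorem centralizer_eq_of_mem {a b : Γ} (ha : a ∈ A) (ha1 : a ≠ 1) (hb : b ∈ zpowers a) (hb1 : b ≠ 1) :
    centralizer ({b} : Set Γ) = centralizer {a} := by
  have e : ∀ c : Γ, centralizer ({c} : Set Γ) = centralizer (zpowers c : Set Γ) := fun c => by
    rw [zpowers_eq_closure, centralizer_closure]
  rw [e, e, h.zpowers_eq_of_mem ha ha1 hb hb1]

/-- An invariant subgroup is generated by one fixed group and a subgroup containing the others. -/
theorem le_sup_fix {H N : Subgroup Γ} (hH : H ≤ K) (hA : A ≤ normalizer (H : Set Γ)) {a : Γ}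
    (ha : a ∈ A) (ha1 : a ≠ 1) (hN : ∀ b ∈ A, b ∉ zpowers a → H ⊓ centralizer {b} ≤ N) :
    H ≤ N ⊔ (H ⊓ centralizer {a}) := by
  refine h.le_of_fix hH hA fun b hb hb1 => ?_
  by_cases hm : b ∈ zpowers a
  · rw [h.centralizer_eq_of_mem ha ha1 hm hb1]; exact le_sup_right
  · exact (hN b hb hm).trans le_sup_left

end Fix

namespace Hyp

variable (h : Hyp q A K)
include h

theorem fix_other {a b : Γ} (ha : a ∈ A) (ha1 : a ≠ 1) (hb : b ∈ A) (hab : b ∉ zpowers a)
    {X : Subgroup Γ} (hX : X ≤ K ⊓ centralizer {b}) : X ⊓ centralizer {a} = ⊥ :=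
  h.fix_inf_eq_bot hb (h.not_mem_symm ha hb ha1 hab).1 ha (h.not_mem_symm ha hb ha1 hab).2 hX

/-- The step over a Frattini quotient. -/
theorem centralizes_of_commutator_eq {r : ℕ} [Fact r.Prime] {a : Γ} (ha : a ∈ A) (ha1 : a ≠ 1)
    {D X Y : Subgroup Γ} (hD : D ≤ K) (hDr : IsPGroup r D) (haD : a ∈ normalizer (D : Set Γ))
    (hX : X ≤ K) (haX : a ∈ normalizer (X : Set Γ)) (hXD : X ≤ normalizer (D : Set Γ))
    (hXc : (Nat.card X).Coprime (Nat.card D)) (hfX : X ⊓ centralizer {a} = ⊥)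
    (hYD : Y ≤ normalizer (D : Set Γ)) (hYc : (Nat.card Y).Coprime (Nat.card D))
    (hcomm : ⁅D, Y⁆ = D) (hfix : ∀ c ∈ D ⊓ centralizer {a}, ∀ y ∈ Y, y * c = c * y) :
    X ≤ centralizer (D : Set Γ) := by
  haveI : (frattini D).Characteristic := frattini_characteristic
  set Φ := (frattini D).map D.subtype
  have hle : normalizer (D : Set Γ) ≤ normalizer (Φ : Set Γ) := normalizer_le_normalizer_map D (frattini D)
  have hΦD : Φ ≤ D := map_subtype_le _
  have hab : ⁅D, D⁆ ≤ Φ := by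
    have h1 := map_mono (f := D.subtype) (CfsgLib.Coprime.commutator_le_frattini hDr)
    rwa [_root_.commutator_def, map_commutator, ← MonoidHom.range_eq_map, range_subtype] at h1
  have key := h.fpf_commute ha ha1 hD hX hΦD haD haX (hle haD) (le_normalizer.trans hle) (hXD.trans hle)
    hXD hXc (fun c hc => mem_of_fixed_of_commutator_eq hΦD (le_normalizer.trans hle) (hYD.trans hle)
      hYD hab hYc hcomm hc.1 (hfix c hc)) hfX
  refine le_centralizer_of_trivial_on_frattini_quotient hXD (hXc.coprime_dvd_right ?_) fun x hx k hk => ?_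
  · exact card_subgroup_dvd_card _
  · have := inv_mem (key k hk x hx)
    rwa [commutatorElement_inv, commutatorElement_def] at this

/-- Fixed groups of two lines: the commutator of the one is centralized by the other. -/
theorem centralizes_commutator {r : ℕ} [Fact r.Prime] {a b : Γ} (ha : a ∈ A) (ha1 : a ≠ 1)
    (hb : b ∈ A) (hab : b ∉ zpowers a) {W X Y : Subgroup Γ} (hW : W ≤ K) (hWr : IsPGroup r W)
    (hAW : A ≤ normalizer (W : Set Γ)) (hY : Y ≤ K ⊓ centralizer {a}) (hAY : A ≤ normalizer (Y : Set Γ))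
    (hX : X ≤ K ⊓ centralizer {b}) (hAX : A ≤ normalizer (X : Set Γ))
    (hYW : Y ≤ normalizer (W : Set Γ)) (hXW : X ≤ normalizer (W : Set Γ))
    (hYc : (Nat.card Y).Coprime (Nat.card W)) (hXc : (Nat.card X).Coprime (Nat.card W))
    (hmod : ∀ x ∈ X, ∀ y ∈ Y, ⁅x, y⁆ ∈ centralizer (W : Set Γ)) :
    X ≤ centralizer ((⁅W, Y⁆ : Subgroup Γ) : Set Γ) := by
  have hDW : ⁅W, Y⁆ ≤ W := commutator_le_self_of_le_normalizer hYW
  refine h.centralizes_of_commutator_eq ha ha1 (hDW.trans hW) (hWr.to_le hDW)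
    (le_normalizer_commutator hAW hAY ha) (hX.trans inf_le_left) (hAX ha)
    (le_normalizer_commutator_mod hXW hYW hmod) (hXc.coprime_dvd_right (card_dvd_of_le hDW))
    (h.fix_other ha ha1 hb hab hX) (normalizer_commutator_ge_right W Y)
    (hYc.coprime_dvd_right (card_dvd_of_le hDW))
    (commutator_commutator_eq hYW hYc (Or.inr (solvable_of_isPGroup hWr))) fun c hc y hy => ?_
  exact h.comm a ha ha1 y (hY hy) c ⟨hW (hDW hc.1), hc.2⟩

/-- A derived `p`-group centralizes an abelian group of order prime to `p` that the `p`-group normalizes. -/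
theorem derived_centralizes {p r : ℕ} [Fact p.Prime] [Fact r.Prime] (hpr : p ≠ r) {R V : Subgroup Γ}
    (hR : R ≤ K) (hRp : IsPGroup p R) (hAR : A ≤ normalizer (R : Set Γ)) (hV : V ≤ K)
    (hVr : IsPGroup r V) (hVc : IsMulCommutative V) (hAV : A ≤ normalizer (V : Set Γ))
    (hRV : R ≤ normalizer (V : Set Γ)) : ⁅R, R⁆ ≤ centralizer (V : Set Γ) := by
  suffices key : ∀ (n : ℕ) (T : Subgroup Γ), Nat.card T = n → T ≤ ⁅R, R⁆ →
      R ≤ normalizer (T : Set Γ) → A ≤ normalizer (T : Set Γ) → T ≤ centralizer (V : Set Γ) from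
    key _ _ rfl le_rfl (le_normalizer_commutator le_normalizer le_normalizer)
      (le_normalizer_commutator hAR hAR)
  intro n
  induction n using Nat.strong_induction_on with
  | _ n ih =>
  intro T hn hT hRT hAT
  by_cases hT1 : T = ⊥
  · rw [hT1]; exact bot_le
  have hTR : T ≤ R := hT.trans (commutator_le_self R)
  have hlt := commutator_lt_self hRp hTR hRT hT1
  have hTC : ⁅T, R⁆ ≤ centralizer (V : Set Γ) := ih _ (by
      rw [← hn]
      exact lt_of_le_of_ne (Nat.le_of_dvd Nat.card_pos (card_dvd_of_le hlt.le)) fun e =>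
        hlt.ne (eq_of_le_of_card_ge hlt.le e.ge)) _ rfl (hlt.le.trans hT)
    (le_normalizer_commutator hRT le_normalizer) (le_normalizer_commutator hAT hAR)
  refine h.le_of_fix (hTR.trans hR) hAT fun a ha ha1 => ?_
  set Y := T ⊓ centralizer {a}
  have hYR : Y ≤ R := inf_le_left.trans hTR
  have hYV : Y ≤ normalizer (V : Set Γ) := hYR.trans hRV
  set D := ⁅V, Y⁆
  have hDV : D ≤ V := commutator_le_self_of_le_normalizer hYV
  have hAY : A ≤ normalizer (Y : Set Γ) := h.inv_fix hAT ha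
  have hRD : R ≤ normalizer (D : Set Γ) := le_normalizer_commutator_mod hRV hYV fun x hx y hy => by
    have := inv_mem (hTC (commutator_mem_commutator hy.1 hx))
    rwa [commutatorElement_inv] at this
  have hcop : ∀ X : Subgroup Γ, X ≤ R → ∀ U : Subgroup Γ, U ≤ V → (Nat.card X).Coprime (Nat.card U) :=
    fun X hX U hU => coprime_of_isPGroup hpr (hRp.to_le hX) (hVr.to_le hU)
  have hfD : D ⊓ centralizer {a} = ⊥ := by
    rw [eq_bot_iff, ← centralizer_inf_commutator_eq_bot hVc hYV (hcop Y hYR V le_rfl)]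
    exact fun c hc => ⟨⟨hDV hc.1, mem_centralizer_iff.2 fun y hy =>
      h.comm a ha ha1 y ⟨hR (hYR hy), hy.2⟩ c ⟨hV (hDV hc.1), hc.2⟩⟩, hc.1⟩
  set N := R ⊓ centralizer (D : Set Γ)
  have hsup : R ≤ N ⊔ (R ⊓ centralizer {a}) := h.le_sup_fix hR hAR ha ha1 fun b hb hab => by
    refine le_inf inf_le_left ?_
    have key := h.fpf_commute ha ha1 (U := D) (X := R ⊓ centralizer {b}) (N := ⊥) (hDV.trans hV)
      (inf_le_left.trans hR) bot_le (le_normalizer_commutator hAV hAY ha) (h.inv_fix hAR hb ha)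
      (by rw [normalizer_eq_top]; exact mem_top a) (by rw [normalizer_eq_top]; exact le_top)
      (by rw [normalizer_eq_top]; exact le_top) (inf_le_left.trans hRD) (hcop _ inf_le_left _ hDV)
      hfD.le (h.fix_other ha ha1 hb hab (inf_le_inf_right _ hR))
    intro x hx
    exact mem_centralizer_iff.2 fun d hd =>
      commutatorElement_eq_one_iff_mul_comm.1 (mem_bot.1 (key d hd x hx))
  have hN : ⁅R, R⁆ ≤ N := commutator_le_of_le_sup hsup
    (inf_le_left.trans (inf_le_normalizer le_normalizer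
      (hRD.trans (normalizer_le_normalizer_centralizer D))))
    fun x hx y hy => h.comm a ha ha1 x ⟨hR hx.1, hx.2⟩ y ⟨hR hy.1, hy.2⟩
  have hD0 : ⁅D, Y⁆ = ⊥ := by
    rw [commutator_eq_bot_iff_le_centralizer, le_centralizer_iff]
    exact (inf_le_left.trans hT).trans (hN.trans inf_le_right)
  rw [commutator_commutator_eq hYV (hcop Y hYR V le_rfl) (Or.inr (solvable_of_isPGroup hVr)),
    commutator_eq_bot_iff_le_centralizer, le_centralizer_iff] at hD0
  exact hD0

/-- The commutator of a `p`-group `B`, abelian on `W`, with a group normalizing `B` centralizes `W`. -/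
theorem commutator_normalizing_centralizes {p r : ℕ} [Fact p.Prime] [Fact r.Prime] (hpr : p ≠ r)
    {B W Z : Subgroup Γ} (hB : B ≤ K) (hBp : IsPGroup p B) (hAB : A ≤ normalizer (B : Set Γ))
    (hW : W ≤ K) (hWr : IsPGroup r W) (hAW : A ≤ normalizer (W : Set Γ))
    (hBW : B ≤ normalizer (W : Set Γ)) (hBB : ⁅B, B⁆ ≤ centralizer (W : Set Γ))
    (hZ : Z ≤ K) (hAZ : A ≤ normalizer (Z : Set Γ)) (hZB : Z ≤ normalizer (B : Set Γ)) :
    ⁅B, Z⁆ ≤ centralizer (W : Set Γ) := by
  classical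
  have hcop : ∀ X : Subgroup Γ, X ≤ B → ∀ U : Subgroup Γ, U ≤ W → (Nat.card X).Coprime (Nat.card U) :=
    fun X hX U hU => coprime_of_isPGroup hpr (hBp.to_le hX) (hWr.to_le hU)
  have hmod : ∀ (X Y : Subgroup Γ), X ≤ B → Y ≤ B → ∀ x ∈ X, ∀ y ∈ Y,
      ⁅x, y⁆ ∈ centralizer (W : Set Γ) := fun X Y hX hY x hx y hy =>
    hBB (commutator_mem_commutator (hX hx) (hY hy))
  let D : Γ → Subgroup Γ := fun e => ⁅W, B ⊓ centralizer {e}⁆
  let Ke : Γ → Subgroup Γ := fun e => B ⊓ centralizer (D e : Set Γ)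
  have hDW : ∀ e, D e ≤ W := fun e => commutator_le_self_of_le_normalizer (inf_le_left.trans hBW)
  have hBD : ∀ e, B ≤ normalizer (D e : Set Γ) := fun e =>
    le_normalizer_commutator_mod hBW (inf_le_left.trans hBW) (hmod B _ le_rfl inf_le_left)
  have hAD : ∀ e ∈ A, A ≤ normalizer (D e : Set Γ) := fun e he =>
    le_normalizer_commutator hAW (h.inv_fix hAB he)
  have hAK : ∀ e ∈ A, A ≤ normalizer (Ke e : Set Γ) := fun e he =>
    inf_le_normalizer hAB ((hAD e he).trans (normalizer_le_normalizer_centralizer _))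
  have hBK : ∀ e, B ≤ normalizer (Ke e : Set Γ) := fun e =>
    inf_le_normalizer le_normalizer ((hBD e).trans (normalizer_le_normalizer_centralizer _))
  have hKf : ∀ e ∈ A, e ≠ 1 → ∀ f ∈ A, f ∉ zpowers e → B ⊓ centralizer {f} ≤ Ke e :=
    fun e he he1 f hf hef => le_inf inf_le_left (h.centralizes_commutator he he1 hf hef hW hWr hAW
      (inf_le_inf_right _ hB) (h.inv_fix hAB he) (inf_le_inf_right _ hB) (h.inv_fix hAB hf)
      (inf_le_left.trans hBW) (inf_le_left.trans hBW) (hcop _ inf_le_left _ le_rfl)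
      (hcop _ inf_le_left _ le_rfl) (hmod _ _ inf_le_left inf_le_left))
  have hsplit : ∀ e ∈ A, e ≠ 1 → ∀ u ∈ B, ∃ k ∈ Ke e, ∃ v ∈ B ⊓ centralizer {e}, k * v = u :=
    fun e he he1 u hu => mem_sup_exists (inf_le_left.trans (hBK e))
      (h.le_sup_fix hB hAB he he1 (hKf e he he1) hu)
  -- separation
  have hsep : ∀ u ∈ B, (∀ e ∈ A, e ≠ 1 → u ∈ Ke e) → u ∈ B ⊓ centralizer (W : Set Γ) := by
    intro u hu hall
    set M : Subgroup Γ := ⨆ e : {e : Γ // e ∈ A ∧ e ≠ 1}, D e
    have hAM : A ≤ normalizer (M : Set Γ) := by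
      intro b hb
      rw [← conjBy_eq_self_iff, conjBy, Subgroup.map_iSup]
      exact iSup_congr fun e => conjBy_eq_self_iff.2 (hAD e e.2.1 hb)
    have hAL : A ≤ normalizer ((B ⊓ centralizer (M : Set Γ) : Subgroup Γ) : Set Γ) :=
      inf_le_normalizer hAB (hAM.trans (normalizer_le_normalizer_centralizer _))
    have hL : B ⊓ centralizer (M : Set Γ) ≤ centralizer (W : Set Γ) := by
      refine h.le_of_fix (inf_le_left.trans hB) hAL fun e he he1 => ?_
      set Y := B ⊓ centralizer (M : Set Γ) ⊓ centralizer {e}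
      have hY : Y ≤ B ⊓ centralizer {e} := inf_le_inf_right _ inf_le_left
      have hYW : Y ≤ normalizer (W : Set Γ) := (hY.trans inf_le_left).trans hBW
      have hD0 : ⁅⁅W, Y⁆, Y⁆ = ⊥ := by
        rw [commutator_eq_bot_iff_le_centralizer, le_centralizer_iff]
        refine (inf_le_left.trans inf_le_right).trans (centralizer_le (SetLike.coe_subset_coe.2 ?_))
        exact (commutator_mono le_rfl hY).trans
          (le_iSup (fun e : {e : Γ // e ∈ A ∧ e ≠ 1} => D e) ⟨e, he, he1⟩)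
      rw [commutator_commutator_eq hYW (hcop Y (hY.trans inf_le_left) W le_rfl)
        (Or.inr (solvable_of_isPGroup hWr)), commutator_eq_bot_iff_le_centralizer, le_centralizer_iff] at hD0
      exact hD0
    refine ⟨hu, hL ⟨hu, ?_⟩⟩
    show u ∈ centralizer (M : Set Γ)
    rw [← SetLike.mem_coe, SetLike.mem_coe, ← zpowers_le, le_centralizer_iff, iSup_le_iff]
    intro e
    rw [le_centralizer_iff, zpowers_le]
    exact (hall e e.2.1 e.2.2).2
  set C₀ := B ⊓ centralizer (W : Set Γ)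
  have hC₀K : ∀ e, C₀ ≤ Ke e := fun e => inf_le_inf_left _ (centralizer_le (hDW e))
  -- each `Ke e` is invariant under the fixed elements of `Z`
  have hy : ∀ c ∈ A, c ≠ 1 → ∀ y ∈ Z ⊓ centralizer {c}, ∀ e ∈ A, e ≠ 1 → ∀ u ∈ Ke e,
      y * u * y⁻¹ ∈ Ke e := by
    intro c hc hc1 y hy e he he1 u hu
    have hyB : ∀ v ∈ B, y * v * y⁻¹ ∈ B := fun v hv => conj_mem_of_le_normalizer hZB hy.1 hv
    by_cases hec : e ∈ zpowers c
    · have hC := h.centralizer_eq_of_mem hc hc1 hec he1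
      have hBc : ⁅B, zpowers c⁆ ≤ Ke e := commutator_le.2 fun v hv d hd => by
        obtain ⟨k, hk, w, hw, rfl⟩ := hsplit e he he1 v hv
        have hwd : w * d = d * w := by
          have h1 : w ∈ centralizer (zpowers c : Set Γ) := by
            rw [zpowers_eq_closure, centralizer_closure, ← hC]; exact hw.2
          exact (mem_centralizer_iff.1 h1 d hd).symm
        rw [commutatorElement_def, show k * w * d * (k * w)⁻¹ * d⁻¹ = k * (w * d) * w⁻¹ * k⁻¹ * d⁻¹ by group,
          hwd, show k * (d * w) * w⁻¹ * k⁻¹ * d⁻¹ = k * (d * k⁻¹ * d⁻¹) by group]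
        exact mul_mem hk (conj_mem_of_le_normalizer (hAK e he) ((zpowers_le.2 hc) hd) (inv_mem hk))
      have hyBc : y ∈ normalizer ((⁅B, zpowers c⁆ : Subgroup Γ) : Set Γ) := by
        refine le_normalizer_commutator (Z := zpowers y) (zpowers_le.2 (hZB hy.1)) ?_ (mem_zpowers y)
        refine zpowers_le.2 (centralizer_le_normalizer _ ?_)
        rw [zpowers_eq_closure, centralizer_closure]; exact hy.2
      have hcB : zpowers c ≤ normalizer (B : Set Γ) := (zpowers_le.2 hc).trans hAB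
      have hu' : u ∈ ⁅B, zpowers c⁆ ⊔ (B ⊓ centralizer (zpowers c : Set Γ)) := by
        rw [commutator_sup_centralizer hcB (h.copz hc hB) (Or.inl (isSolvable_of_le (zpowers_le.2 hc) h.solvA))]
        exact hu.1
      obtain ⟨v, hv, w, hw, rfl⟩ := mem_sup_exists
        (inf_le_left.trans (normalizer_commutator_ge_left B (zpowers c))) hu'
      have hwK : w ∈ Ke e := by simpa using mul_mem (inv_mem (hBc hv)) hu
      have hwc : w ∈ centralizer ({c} : Set Γ) := by
        have := hw.2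
        rwa [zpowers_eq_closure, centralizer_closure] at this
      have hyw : y * w = w * y := h.comm c hc hc1 y ⟨hZ hy.1, hy.2⟩ w ⟨hB hw.1, hwc⟩
      rw [show y * (v * w) * y⁻¹ = (y * v * y⁻¹) * (y * w * y⁻¹) by group, hyw, mul_inv_cancel_right]
      exact mul_mem (hBc ((mem_normalizer_iff.1 hyBc v).1 hv)) hwK
    · set E := D e ⊓ centralizer {c}
      have hce : c ∉ zpowers e := fun hm => hec
        ((h.zpowers_eq_of_mem he he1 hm hc1).ge (mem_zpowers e))
      have hle : ∀ v ∈ B, v ∈ centralizer (E : Set Γ) → v ∈ Ke e := by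
        intro v hv hvE
        obtain ⟨k, hk, w, hw, rfl⟩ := hsplit e he he1 v hv
        have hwE : w ∈ centralizer (E : Set Γ) := by
          have hkE : k ∈ centralizer (E : Set Γ) := centralizer_le (SetLike.coe_subset_coe.2 inf_le_left) hk.2
          simpa using mul_mem (inv_mem hkE) hvE
        set Y₀ := B ⊓ centralizer {e} ⊓ centralizer (E : Set Γ)
        have hAY₀ : A ≤ normalizer (Y₀ : Set Γ) := inf_le_normalizer (h.inv_fix hAB he)
          ((h.inv_fix (hAD e he) hc).trans (normalizer_le_normalizer_centralizer _))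
        have hY₀B : Y₀ ≤ B := inf_le_left.trans inf_le_left
        have hY₀D : Y₀ ≤ normalizer (D e : Set Γ) := hY₀B.trans (hBD e)
        have hcc : ⁅⁅D e, Y₀⁆, Y₀⁆ = ⁅D e, Y₀⁆ := commutator_commutator_eq hY₀D (hcop Y₀ hY₀B _ (hDW e))
          (Or.inr (solvable_of_isPGroup (hWr.to_le (hDW e))))
        have hD₀ : ⁅D e, Y₀⁆ ≤ D e := commutator_le_self_of_le_normalizer hY₀D
        have hcent := h.centralizes_of_commutator_eq hc hc1 (D := ⁅D e, Y₀⁆) (X := Y₀) (Y := Y₀)
          ((hD₀.trans (hDW e)).trans hW) (hWr.to_le (hD₀.trans (hDW e)))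
          (le_normalizer_commutator (hAD e he) hAY₀ hc) (hY₀B.trans hB) (hAY₀ hc)
          (normalizer_commutator_ge_right _ _) (hcop Y₀ hY₀B _ (hD₀.trans (hDW e)))
          (h.fix_inf_eq_bot he he1 hc hce (inf_le_left.trans (inf_le_inf_right _ hB)))
          (normalizer_commutator_ge_right _ _) (hcop Y₀ hY₀B _ (hD₀.trans (hDW e))) hcc
          fun d hd t ht => (mem_centralizer_iff.1 ht.2 d ⟨hD₀ hd.1, hd.2⟩).symm
        have h0 : ⁅D e, Y₀⁆ = ⊥ := by
          rw [← hcc, commutator_eq_bot_iff_le_centralizer, le_centralizer_iff]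
          exact hcent
        rw [commutator_eq_bot_iff_le_centralizer, le_centralizer_iff] at h0
        exact mul_mem hk ⟨hw.1, h0 ⟨hw, hwE⟩⟩
      refine hle _ (hyB u hu.1) ?_
      have hyE : y ∈ centralizer (E : Set Γ) := mem_centralizer_iff.2 fun d hd =>
        h.comm c hc hc1 d ⟨hW (hDW e hd.1), hd.2⟩ y ⟨hZ hy.1, hy.2⟩
      exact mul_mem (mul_mem hyE (centralizer_le (SetLike.coe_subset_coe.2 inf_le_left) hu.2)) (inv_mem hyE)
  have hyC : ∀ c ∈ A, c ≠ 1 → ∀ y ∈ Z ⊓ centralizer {c}, ∀ u ∈ C₀, y * u * y⁻¹ ∈ C₀ :=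
    fun c hc hc1 y hy' u hu => hsep _ (conj_mem_of_le_normalizer hZB hy'.1 hu.1) fun e he he1 =>
      hy c hc hc1 y hy' e he he1 u (hC₀K e hu)
  -- congruence for fixed elements
  have hfc : ∀ c ∈ A, c ≠ 1 → ∀ f ∈ A, f ≠ 1 → ∀ z ∈ Z ⊓ centralizer {c}, ∀ b ∈ B ⊓ centralizer {f},
      ⁅z, b⁆ ∈ C₀ := by
    intro c hc hc1 f hf hf1 z hz b hb
    by_cases hcf : f ∈ zpowers c
    · rw [commutatorElement_eq_one_iff_mul_comm.2 (h.comm c hc hc1 z ⟨hZ hz.1, hz.2⟩ b
        ⟨hB hb.1, h.centralizer_eq_of_mem hc hc1 hcf hf1 ▸ hb.2⟩)]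
      exact one_mem _
    set Zc := Z ⊓ centralizer {c}
    have hmem : ∀ y : Zc, (y : Γ)⁻¹ * (f * y * f⁻¹) ∈ Zc := fun y =>
      mul_mem (inv_mem y.2) (conj_mem_of_le_normalizer (h.inv_fix hAZ hc) hf y.2)
    let φ : Zc → Zc := fun y => ⟨_, hmem y⟩
    have hφ : Function.Surjective φ := Finite.surjective_of_injective fun y y' e => by
      have e' : (y : Γ)⁻¹ * (f * y * f⁻¹) = (y' : Γ)⁻¹ * (f * y' * f⁻¹) := congrArg Subtype.val e
      have h1 : (y' : Γ) * (y : Γ)⁻¹ = 1 := by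
        refine h.fix_two hc hc1 hf hcf (hZ (mul_mem y'.2.1 (inv_mem y.2.1)))
          (mul_mem y'.2.2 (inv_mem y.2.2)) (mem_fix_of_conj_eq ?_)
        calc f * ((y' : Γ) * (y : Γ)⁻¹) * f⁻¹
            = (y' : Γ) * ((y' : Γ)⁻¹ * (f * y' * f⁻¹)) * (f * y * f⁻¹)⁻¹ := by group
          _ = _ := by rw [← e']; group
      exact Subtype.ext (mul_inv_eq_one.1 h1).symm
    obtain ⟨⟨y, hy'⟩, hyz⟩ := hφ ⟨z, hz⟩
    obtain rfl : y⁻¹ * (f * y * f⁻¹) = z := congrArg Subtype.val hyz
    set v := y * b * y⁻¹ * b⁻¹ with hv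
    have hvB : v ∈ B := mul_mem (conj_mem_of_le_normalizer hZB hy'.1 hb.1) (inv_mem hb.1)
    have hfb : f * b * f⁻¹ = b := fix_conj_eq hb.2
    have hv' : f * v * f⁻¹ * v⁻¹ ∈ C₀ := by
      refine hsep _ (mul_mem (conj_mem_of_le_normalizer hAB hf hvB) (inv_mem hvB)) fun e he he1 => ?_
      by_cases hef : f ∈ zpowers e
      · obtain ⟨k, hk, w, hw, hkw⟩ := hsplit e he he1 v hvB
        have hwf : f * w * f⁻¹ = w :=
          fix_conj_eq (h.centralizer_eq_of_mem he he1 hef hf1 ▸ hw.2 : w ∈ centralizer {f})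
        rw [← hkw, show f * (k * w) * f⁻¹ * (k * w)⁻¹ = (f * k * f⁻¹) * (f * w * f⁻¹) * w⁻¹ * k⁻¹ by group,
          hwf, mul_inv_cancel_right]
        exact mul_mem (conj_mem_of_le_normalizer (hAK e he) hf hk) (inv_mem hk)
      · have hbK := hKf e he he1 f hf hef hb
        have hvK : v ∈ Ke e := mul_mem (hy c hc hc1 y hy' e he he1 b hbK) (inv_mem hbK)
        exact mul_mem (conj_mem_of_le_normalizer (hAK e he) hf hvK) (inv_mem hvK)
    have := hyC c hc hc1 y⁻¹ (inv_mem hy') _ hv'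
    rw [hv, show f * (y * b * y⁻¹ * b⁻¹) * f⁻¹ = (f * y * f⁻¹) * (f * b * f⁻¹) * (f * y * f⁻¹)⁻¹ * (f * b * f⁻¹)⁻¹ by group,
      hfb] at this
    have e3 : y⁻¹ * ((f * y * f⁻¹) * b * (f * y * f⁻¹)⁻¹ * b⁻¹ * (y * b * y⁻¹ * b⁻¹)⁻¹) * (y⁻¹)⁻¹ =
        ⁅y⁻¹ * (f * y * f⁻¹), b⁆ := by
      rw [commutatorElement_def]; group
    rwa [e3] at this
  -- modulo `C₀` the fixed elements commute
  haveI : (C₀.subgroupOf (normalizer (C₀ : Set Γ))).Normal :=
    (normal_subgroupOf_iff_le_normalizer le_normalizer).2 le_rfl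
  have hBn : B ≤ normalizer (C₀ : Set Γ) :=
    inf_le_normalizer le_normalizer (hBW.trans (normalizer_le_normalizer_centralizer _))
  have hZn : Z ≤ normalizer (C₀ : Set Γ) := h.le_of_fix hZ hAZ fun c hc hc1 y hy' => by
    rw [← conjBy_eq_self_iff]
    refine eq_of_le_of_card_ge ?_ (card_conjBy _ _).ge
    rintro _ ⟨u, hu, rfl⟩
    exact hyC c hc hc1 y hy' u hu
  set π := QuotientGroup.mk' (C₀.subgroupOf (normalizer (C₀ : Set Γ)))
  have hone : ∀ x ∈ qimg C₀ Z, ∀ f ∈ A, f ≠ 1 → ∀ b (hb : b ∈ B ⊓ centralizer {f}),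
      x * π ⟨b, hBn hb.1⟩ = π ⟨b, hBn hb.1⟩ * x := by
    intro x hx f hf hf1 b hb
    have hsub : Z ≤ ((centralizer {π ⟨b, hBn hb.1⟩}).comap π).map (normalizer (C₀ : Set Γ)).subtype :=
      h.le_of_fix hZ hAZ fun c hc hc1 z hz => ⟨⟨z, hZn hz.1⟩, by
        rw [SetLike.mem_coe, mem_comap, mem_centralizer_singleton_iff,
          ← commutatorElement_eq_one_iff_mul_comm, ← map_commutatorElement, QuotientGroup.mk'_apply,
          QuotientGroup.eq_one_iff, mem_subgroupOf]
        simpa [commutatorElement_def] using hfc c hc hc1 f hf hf1 z hz b hb, rfl⟩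
    obtain ⟨z, hz, rfl⟩ := hx
    obtain ⟨w, hw, e⟩ := hsub (show (z : Γ) ∈ Z from hz)
    rw [show w = z from Subtype.ext e] at hw
    exact mem_centralizer_singleton_iff.1 hw
  have hBsub : B ≤ ((centralizer (qimg C₀ Z : Set _)).comap π).map (normalizer (C₀ : Set Γ)).subtype :=
    h.le_of_fix hB hAB fun f hf hf1 b hb => ⟨⟨b, hBn hb.1⟩, mem_centralizer_iff.2 fun x hx =>
      hone x hx f hf hf1 b hb, rfl⟩
  refine commutator_le.2 fun b hb z hz => ?_
  obtain ⟨w, hw, e⟩ := hBsub hb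
  rw [show w = ⟨b, hBn hb⟩ from Subtype.ext e] at hw
  have := mem_centralizer_iff.1 hw (π ⟨z, hZn hz⟩) (mem_map_of_mem _ hz)
  rw [eq_comm, ← commutatorElement_eq_one_iff_mul_comm, ← map_commutatorElement, QuotientGroup.mk'_apply,
    QuotientGroup.eq_one_iff, mem_subgroupOf] at this
  exact (inf_le_right : C₀ ≤ _) (by simpa [commutatorElement_def, -Subgroup.mem_inf] using this)

end Hyp

end CfsgLib.Coprime.SquareFixed
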